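import Groth.Agent.EGA2.K36.SymAlg
import Groth.Prelude.Def_RelProj2
import Mathlib.LinearAlgebra.TensorAlgebra.Grading

/-!
# The graded symmetric algebra of a quasi-coherent module

* `SymmetricAlgebra R M` is graded by the powers of `M` (`symGraded`);
* `gradedRingMap`: transport of a grading along a ring isomorphism;
* `exists_grSym`: existence of `(𝒮, j)` with `IsGrSymAlg E 𝒮 j`, for `E` quasi-coherent.
-/

set_option autoImplicit false
universe u
open CategoryTheory CategoryTheory.Limits AlgebraicGeometry TopologicalSpace Opposite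
open scoped DirectSum

noncomputable section

namespace K43.GrSym

section ring

variable (R M : Type u) [CommRing R] [AddCommGroup M] [Module R M]

/-- The degree `n` part of the symmetric algebra. -/
def symDeg (n : ℕ) : Submodule R (SymmetricAlgebra R M) := LinearMap.range (SymmetricAlgebra.ι R M) ^ n

theorem ι_mem (m : M) : SymmetricAlgebra.ι R M m ∈ symDeg R M 1 := by
  rw [symDeg, pow_one]; exact LinearMap.mem_range_self _ m

instance gradedMonoid : SetLike.GradedMonoid (symDeg R M) :=
  inferInstanceAs (SetLike.GradedMonoid (fun n => LinearMap.range (SymmetricAlgebra.ι R M) ^ n))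

/-- `ι` with values in the graded structure. -/
def grι : M →ₗ[R] ⨁ i : ℕ, ↥(symDeg R M i) :=
  DirectSum.lof R ℕ (fun i => ↥(symDeg R M i)) 1 ∘ₗ (SymmetricAlgebra.ι R M).codRestrict _ (ι_mem R M)

theorem grι_apply (m : M) :
    grι R M m = DirectSum.of (fun i : ℕ => ↥(symDeg R M i)) 1 ⟨SymmetricAlgebra.ι R M m, ι_mem R M m⟩ := rfl

/-- The symmetric algebra is graded by the powers of `M`. -/
@[implicit_reducible]
def symGraded : GradedAlgebra (symDeg R M) :=
  GradedAlgebra.ofAlgHom _ (SymmetricAlgebra.lift (grι R M))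
    (by
      apply SymmetricAlgebra.algHom_ext
      apply LinearMap.ext
      intro m
      change DirectSum.coeAlgHom (symDeg R M) (SymmetricAlgebra.lift (grι R M) (SymmetricAlgebra.ι R M m)) =
        SymmetricAlgebra.ι R M m
      rw [SymmetricAlgebra.lift_ι_apply, grι_apply R M, DirectSum.coeAlgHom_of])
    fun i x => by
    obtain ⟨x, hx⟩ := x
    dsimp only [Subtype.coe_mk, DirectSum.lof_eq_of]
    unfold symDeg at hx
    induction hx using Submodule.pow_induction_on_left' with
    | algebraMap r =>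
      rw [AlgHom.commutes, DirectSum.algebraMap_apply]; rfl
    | add x y i hx hy ihx ihy =>
      rw [map_add, ihx, ihy, ← map_add]
      rfl
    | mem_mul m hm i x hx ih =>
      obtain ⟨_, rfl⟩ := hm
      rw [map_mul, ih, SymmetricAlgebra.lift_ι_apply, grι_apply R M, DirectSum.of_mul_of]
      exact DirectSum.of_eq_of_gradedMonoid_eq (Sigma.subtype_ext (add_comm _ _) rfl)

variable {R M}

/-- The graded pieces are preserved by the maps induced by semilinear maps. -/
theorem map_mem {R' M' : Type u} [CommRing R'] [AddCommGroup M'] [Module R' M']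
    (f : SymmetricAlgebra R M →+* SymmetricAlgebra R' M')
    (h0 : ∀ r : R, f (algebraMap R _ r) ∈ symDeg R' M' 0) (h1 : ∀ m, f (SymmetricAlgebra.ι R M m) ∈ symDeg R' M' 1)
    {n : ℕ} {x : SymmetricAlgebra R M} (hx : x ∈ symDeg R M n) : f x ∈ symDeg R' M' n := by
  unfold symDeg at hx
  induction hx using Submodule.pow_induction_on_left' with
  | algebraMap r => exact h0 r
  | add x y i hx hy ihx ihy => rw [map_add]; exact add_mem ihx ihy
  | mem_mul m hm i x hx ih =>
    obtain ⟨m, rfl⟩ := hm
    rw [map_mul, Nat.succ_eq_add_one, add_comm]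
    exact SetLike.mul_mem_graded (h1 m) ih

section transport

variable {R A B : Type u} [CommRing R] [CommRing A] [Algebra R A] [CommRing B] (e : A ≃+* B) (𝒜 : ℕ → Submodule R A)
  [GradedRing 𝒜]

/-- The transported grading. -/
def tr (n : ℕ) : AddSubgroup B := (𝒜 n).toAddSubgroup.comap (e.symm : B →+* A).toAddMonoidHom

omit [GradedRing 𝒜] in
theorem mem_tr {n : ℕ} {b : B} : b ∈ tr e 𝒜 n ↔ e.symm b ∈ 𝒜 n := Iff.rfl

/-- The isomorphism on graded pieces. -/
def trHom (n : ℕ) : 𝒜 n →+ tr e 𝒜 n :=
  AddMonoidHom.mk' (fun a => ⟨e a, by rw [mem_tr, e.symm_apply_apply]; exact a.2⟩)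
    (fun a b => Subtype.ext (map_add e (a : A) b))

omit [GradedRing 𝒜] in
theorem coe_trHom {n : ℕ} (a : 𝒜 n) : (trHom e 𝒜 n a : B) = e a := rfl

/-- The decomposition of the transported grading. -/
def trDec : (⨁ n, 𝒜 n) →+ ⨁ n, tr e 𝒜 n :=
  DirectSum.toAddMonoid (fun n => (DirectSum.of (fun n => ↥(tr e 𝒜 n)) n).comp (trHom e 𝒜 n))

theorem trDec_of {n : ℕ} (a : 𝒜 n) : trDec e 𝒜 (DirectSum.of _ n a) = DirectSum.of _ n (trHom e 𝒜 n a) := by
  rw [trDec, DirectSum.toAddMonoid_of]; rfl

theorem coe_trDec (x : ⨁ n, 𝒜 n) :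
    DirectSum.coeAddMonoidHom (tr e 𝒜) (trDec e 𝒜 x) = e (DirectSum.coeAddMonoidHom 𝒜 x) := by
  induction x using DirectSum.induction_on with
  | zero => rw [map_zero, map_zero, map_zero, map_zero]
  | of i b => rw [trDec_of, DirectSum.coeAddMonoidHom_of, DirectSum.coeAddMonoidHom_of, coe_trHom]
  | add x y hx hy => rw [map_add, map_add, hx, hy, map_add, map_add]

theorem trDec_decompose (x : ⨁ n, tr e 𝒜 n) :
    trDec e 𝒜 (DirectSum.decompose 𝒜 (e.symm (DirectSum.coeAddMonoidHom (tr e 𝒜) x))) = x := by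
  induction x using DirectSum.induction_on with
  | zero => rw [map_zero, map_zero, DirectSum.decompose_zero, map_zero]
  | of i b =>
    rw [DirectSum.coeAddMonoidHom_of, DirectSum.decompose_of_mem 𝒜 (mem_tr e 𝒜 |>.mp b.2), trDec_of]
    congr 1
    exact Subtype.ext (e.apply_symm_apply _)
  | add x y hx hy => rw [map_add, map_add, DirectSum.decompose_add, map_add, hx, hy]

/-- Transport of a grading along a ring isomorphism. -/
@[implicit_reducible]
def gradedRingTr : GradedRing (tr e 𝒜) where
  one_mem := by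
    change e.symm 1 ∈ 𝒜 0
    rw [map_one]; exact SetLike.one_mem_graded 𝒜
  mul_mem i j a b ha hb := by
    change e.symm (a * b) ∈ 𝒜 (i + j)
    rw [map_mul]; exact SetLike.mul_mem_graded ha hb
  decompose' b := trDec e 𝒜 (DirectSum.decompose 𝒜 (e.symm b))
  left_inv b := by
    rw [coe_trDec]
    have h := DirectSum.Decomposition.left_inv (ℳ := 𝒜) (e.symm b)
    exact (congrArg e h).trans (e.apply_symm_apply b)
  right_inv x := trDec_decompose e 𝒜 x

end transport

end ring

section sheaf

open K36.SymAlg RelProj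

variable {S : Scheme.{u}} {E : S.Modules} {A : RelSpec.QCAlg S} {j : E ⟶ A.toModule}
  (hb : ∀ (U : S.Opens), IsAffineOpen U → Function.Bijective (symHom E A j U))

/-- The sections over an affine open, as a symmetric algebra. -/
def eqv (U : S.Opens) (hU : IsAffineOpen U) : SymmetricAlgebra Γ(S, U) Γ(E, U) ≃+* A.presheaf.obj (op U) :=
  RingEquiv.ofBijective (symHom E A j U) (hb U hU)

theorem eqv_symm_symHom (U : S.Opens) (hU : IsAffineOpen U) (x : SymmetricAlgebra Γ(S, U) Γ(E, U)) :
    (eqv hb U hU).symm (symHom E A j U x) = x := (eqv hb U hU).symm_apply_apply x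

/-- The graded symmetric algebra. -/
def grSym : QCGrAlg S where
  toQCAlg := A
  deg U hU n := tr (eqv hb U hU) (symDeg Γ(S, U) Γ(E, U)) n
  graded U hU := by
    have := symGraded Γ(S, U) Γ(E, U)
    exact gradedRingTr (eqv hb U hU) (symDeg Γ(S, U) Γ(E, U))
  map_mem {U V} hU hV i d x hx := by
    obtain ⟨y, rfl⟩ := (hb U hU).2 x
    rw [mem_tr, eqv_symm_symHom] at hx
    have h1 := congr(($(symHom_res E A j i)) y)
    rw [mem_tr]
    change (eqv hb V hV).symm ((A.presheaf.map (homOfLE i).op).hom.comp (symHom E A j U) y) ∈ _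
    rw [← h1, RingHom.comp_apply, eqv_symm_symHom]
    refine map_mem _ (fun r => ?_) (fun m => ?_) hx
    · rw [symRes, Groth.Agent.CohqB.SymLoc.symMap_algebraMap]
      exact SetLike.algebraMap_mem_graded _ _
    · rw [symRes, Groth.Agent.CohqB.SymLoc.symMap_ι]
      exact ι_mem _ _ _
  str_mem U hU r := by
    rw [mem_tr, ← symHom_algebraMap E A j U r, eqv_symm_symHom]
    exact SetLike.algebraMap_mem_graded _ _

end sheaf

/-- **Existence of the graded symmetric algebra** of a quasi-coherent module. -/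
theorem exists_grSym {S : Scheme.{u}} {E : S.Modules} (hE : Coh.IsQCoh E) :
    ∃ (𝒮 : RelProj.QCGrAlg S) (j : E ⟶ 𝒮.toModule), RelProj.IsGrSymAlg E 𝒮 j := by
  obtain ⟨A, j, hj, hb⟩ := K36.SymAlg.exists_symAlg E hE
  refine ⟨grSym hb, j, hj, fun U hU x => ?_⟩
  have h1 := K36.SymAlg.symHom_ι E A j U x
  have h2 : (eqv hb U hU).symm (K36.SymAlg.jApp E A j U x) = SymmetricAlgebra.ι _ _ x := by
    rw [← h1, eqv_symm_symHom hb U hU]
  have h3 : K36.SymAlg.jApp E A j U x ∈ tr (eqv hb U hU) (symDeg Γ(S, U) Γ(E, U)) 1 := by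
    rw [mem_tr, h2]
    exact ι_mem _ _ _
  exact h3

end K43.GrSym
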