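import Groth.Agent.EGA2.K43.HomImm
import Groth.Agent.Ega2.Nv
import Groth.Agent.Fdesc.QCohStalk
import Groth.Prelude.Def_Coh

/-!
# The section-level condition for relative very ampleness

For `q : X ⟶ Y` and `φ : E ⟶ q_* L`:
* `se q φ e : Γ(L, q⁻¹ U)`, the section attached to `e : Γ(E, U)`; `nz q φ e` its nonvanishing locus;
* `ratioRing q φ e`: the subring of `Γ(X, nz q φ e)` generated by the functions of `U` and the ratios `φ t / φ e`;
* `At q φ U x`: there is `e : Γ(E, U)` with `x ∈ nz e` and `nz e ⟶ Spec (ratioRing e)` an immersion;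
* `VA q φ`: `At q φ U x` for every affine open `U` and `x ∈ q⁻¹ U`.
`At.mono` (smaller opens), `At.of_basicOpen` (`E` quasi-coherent, from `D(r)` back to `U` affine), `va_of_cover`.
-/

set_option autoImplicit false
universe u
open CategoryTheory CategoryTheory.Limits AlgebraicGeometry TopologicalSpace Opposite

namespace K43.VADef

open Groth.Agent.Fdesc.LocGen Groth.Agent.Ega2.Nv Groth.Agent.Ega2.ExtCoeff K43.HomImm

variable {X Y : Scheme.{u}} (q : X ⟶ Y) {L : X.Modules} {E : Y.Modules}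
  (φ : E ⟶ (Scheme.Modules.pushforward q).obj L)

/-- The section of `L` over `q⁻¹ U` attached to a section `e` of `E` over `U`. -/
noncomputable def se {U : Y.Opens} (e : Γ(E, U)) : Γ(L, q ⁻¹ᵁ U) := φ.app U e

theorem se_add {U : Y.Opens} (e e' : Γ(E, U)) : se q φ (e + e') = se q φ e + se q φ e' :=
  map_add (φ.app U).hom e e'

theorem se_smul {U : Y.Opens} (a : Γ(Y, U)) (e : Γ(E, U)) :
    se q φ (a • e) = (q.app U a : Γ(X, q ⁻¹ᵁ U)) • se q φ e :=
  Scheme.Modules.Hom.app_smul φ a e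

theorem res_se {U V : Y.Opens} (h : V ≤ U) (e : Γ(E, U)) :
    res L (q.preimage_mono h) (se q φ e) = se q φ (res E h e) :=
  (app_res φ h e).symm

/-- The open where `φ e` generates `L`. -/
noncomputable def nz {U : Y.Opens} (e : Γ(E, U)) : X.Opens := nv L (se q φ e)

theorem nz_le {U : Y.Opens} (e : Γ(E, U)) : nz q φ e ≤ q ⁻¹ᵁ U := nv_le _ _

theorem isGen_nz {U : Y.Opens} (e : Γ(E, U)) : IsGen (res L (nz_le q φ e) (se q φ e)) := isGen_nv _ _

theorem nz_res {U V : Y.Opens} (h : V ≤ U) (e : Γ(E, U)) : nz q φ (res E h e) = q ⁻¹ᵁ V ⊓ nz q φ e := by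
  rw [nz, ← res_se q φ h, nv_res]; rfl

/-- Functions of `U` and ratios of sections, over an open `W ⊆ q⁻¹ U` . -/
def gens {U : Y.Opens} (e : Γ(E, U)) (W : X.Opens) (hW : W ≤ q ⁻¹ᵁ U) : Set Γ(X, W) :=
  Set.range (fun a : Γ(Y, U) => ores hW (q.app U a)) ∪
    {a | ∃ t : Γ(E, U), res L hW (se q φ t) = a • res L hW (se q φ e)}

/-- The subring of `Γ(X, nz e)` generated by the functions of `U` and the ratios `φ t / φ e`. -/
noncomputable def ratioRing {U : Y.Opens} (e : Γ(E, U)) : Subring Γ(X, nz q φ e) :=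
  Subring.closure (gens q φ e (nz q φ e) (nz_le q φ e))

theorem app_mem_ratioRing {U : Y.Opens} (e : Γ(E, U)) (a : Γ(Y, U)) :
    ores (nz_le q φ e) (q.app U a) ∈ ratioRing q φ e :=
  Subring.subset_closure (Or.inl ⟨a, rfl⟩)

theorem ratio_mem_ratioRing {U : Y.Opens} (e : Γ(E, U)) {a : Γ(X, nz q φ e)} (t : Γ(E, U))
    (h : res L (nz_le q φ e) (se q φ t) = a • res L (nz_le q φ e) (se q φ e)) : a ∈ ratioRing q φ e :=
  Subring.subset_closure (Or.inr ⟨t, h⟩)

/-- The ratio `φ t / φ e` on `nz e`. -/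
theorem exists_ratio {U : Y.Opens} (e t : Γ(E, U)) : ∃ a ∈ ratioRing q φ e,
    res L (nz_le q φ e) (se q φ t) = a • res L (nz_le q φ e) (se q φ e) := by
  obtain ⟨a, ha⟩ := (isGen_nz q φ e).exists_eq (res L (nz_le q φ e) (se q φ t))
  exact ⟨a, ratio_mem_ratioRing q φ e t ha, ha⟩

/-- The condition at `x` over `U`. -/
def At (U : Y.Opens) (x : X) : Prop := ∃ e : Γ(E, U), x ∈ nz q φ e ∧ HImm (nz q φ e) (ratioRing q φ e)

/-- The condition over all affine opens of `Y`. -/
def VA : Prop := ∀ (U : Y.Opens), IsAffineOpen U → ∀ x ∈ q ⁻¹ᵁ U, At q φ U x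

/-- Comparison of `HImm` over two equal opens. -/
theorem himm_congr {W W' : X.Opens} (h : W' = W) (B : Subring Γ(X, W)) (B' : Subring Γ(X, W'))
    (hB : ∀ b ∈ B, ores h.le b ∈ B') (hB0 : HImm W B) : HImm W' B' := by
  refine (hB0.res h.le).mono ?_
  rintro _ ⟨b, hb, rfl⟩
  exact hB b hb

theorem ores_mem_of_closure {W W' : X.Opens} (h : W' ≤ W) (S : Set Γ(X, W)) (B' : Subring Γ(X, W'))
    (hB : ∀ b ∈ S, ores h b ∈ B') {b : Γ(X, W)} (hb : b ∈ Subring.closure S) : ores h b ∈ B' := by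
  have : Subring.closure S ≤ B'.comap (ores h) := Subring.closure_le.mpr hB
  exact this hb

variable {q φ}

/-- The condition passes to smaller opens. -/
theorem At.mono {U V : Y.Opens} {x : X} (h : At q φ U x) (hV : V ≤ U) (hx : x ∈ q ⁻¹ᵁ V) : At q φ V x := by
  obtain ⟨e, hxe, he⟩ := h
  have hle : nz q φ (res E hV e) ≤ nz q φ e := by rw [nz_res]; exact inf_le_right
  refine ⟨res E hV e, ?_, ?_⟩
  · rw [nz_res]; exact ⟨hx, hxe⟩
  · refine (he.res hle).mono ?_
    rintro _ ⟨b, hb, rfl⟩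
    refine ores_mem_of_closure hle _ _ ?_ hb
    rintro b (⟨a, rfl⟩ | ⟨t, ht⟩)
    · have h1 := app_mem_ratioRing q φ (res E hV e) (ores hV a)
      have h2 : (q.app V (ores hV a) : Γ(X, q ⁻¹ᵁ V)) = ores (q.preimage_mono hV) (q.app U a) :=
        congr(($(q.naturality (homOfLE hV).op)).hom a)
      rw [h2, ores_ores] at h1
      rwa [ores_ores]
    · refine ratio_mem_ratioRing q φ (res E hV e) (res E hV t) ?_
      have h1 := congrArg (res L hle) ht
      rw [res_smul, res_res, res_res] at h1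
      rw [← res_se q φ hV, ← res_se q φ hV, res_res, res_res]
      exact h1

/-- Lifting sections of a quasi-coherent module from a basic open. -/
theorem exists_res_eq {M : Y.Modules} (hM : Coh.IsQCoh M) {U : Y.Opens} (hU : IsAffineOpen U) (f : Γ(Y, U))
    (t : Γ(M, Y.basicOpen f)) : ∃ (n : ℕ) (m : Γ(M, U)),
      res M (Y.basicOpen_le f) m = (ores (Y.basicOpen_le f) f) ^ n • t :=
  Groth.Agent.Fdesc.QCohStalk.exists_map_eq_pow_smul M hU hM f t

/-- Lifting functions from a basic open. -/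
theorem exists_ores_eq {U : Y.Opens} (hU : IsAffineOpen U) (f : Γ(Y, U)) (b : Γ(Y, Y.basicOpen f)) :
    ∃ (n : ℕ) (a : Γ(Y, U)), ores (Y.basicOpen_le f) a = (ores (Y.basicOpen_le f) f) ^ n * b := by
  let _ : Algebra Γ(Y, U) Γ(Y, Y.basicOpen f) := (ores (Y.basicOpen_le f)).toAlgebra
  have h : IsLocalization.Away f Γ(Y, Y.basicOpen f) := hU.isLocalization_basicOpen f
  obtain ⟨⟨a, s, hs⟩, has⟩ := IsLocalization.surj (Submonoid.powers f) b
  obtain ⟨n, rfl⟩ := hs
  refine ⟨n, a, ?_⟩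
  have h2 : b * ores (Y.basicOpen_le f) (f ^ n) = ores (Y.basicOpen_le f) a := has
  rw [← h2, map_pow, mul_comm]

/-- Nonvanishing locus of a multiple. -/
theorem nv_smul' {M : X.Modules} {U : X.Opens} (a : Γ(X, U)) (s : Γ(M, U)) :
    nv M (a • s) = X.basicOpen a ⊓ nv M s := by
  apply le_antisymm
  · have h := (le_nv_iff M (a • s) (nv_le _ _)).1 le_rfl
    rw [res_smul] at h
    obtain ⟨b, hb⟩ := h.exists_eq (res M (nv_le M (a • s)) s)
    have h1 : b * ores (nv_le M (a • s)) a = 1 := by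
      apply h.ext
      rw [one_smul, mul_comm, mul_smul, ← hb]
    have hu : IsUnit (ores (nv_le M (a • s)) a) := IsUnit.of_mul_eq_one_right b h1
    refine le_inf ?_ ?_
    · have h2 : X.basicOpen (ores (nv_le M (a • s)) a) = nv M (a • s) :=
        X.toRingedSpace.basicOpen_of_isUnit hu
      rw [← h2, basicOpen_res]
      exact inf_le_right
    · rw [le_nv_iff M s (nv_le M (a • s)), hb]
      exact h.unit_smul (IsUnit.of_mul_eq_one _ h1)
  · rw [le_nv_iff M (a • s) (inf_le_left.trans (X.basicOpen_le a)), res_smul]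
    refine IsGen.unit_smul ?_ ?_
    · rw [← le_nv_iff]
      exact inf_le_right
    · have h1 := (RingedSpace.isUnit_res_basicOpen X.toRingedSpace a).map
        (ores (inf_le_left : X.basicOpen a ⊓ nv M s ≤ X.basicOpen a))
      have h2 : (ores (inf_le_left : X.basicOpen a ⊓ nv M s ≤ X.basicOpen a))
          (ores (X.basicOpen_le a) a) = ores (inf_le_left.trans (X.basicOpen_le a)) a := ores_ores _ _ a
      rw [← h2]
      exact h1

theorem nz_smul {U : Y.Opens} (a : Γ(Y, U)) (e : Γ(E, U)) :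
    nz q φ (a • e) = q ⁻¹ᵁ (Y.basicOpen a) ⊓ nz q φ e := by
  rw [nz, se_smul, nv_smul', Scheme.preimage_basicOpen]
  rfl

/-- The condition over a basic open of an affine open `U` gives the condition over `U`. -/
theorem At.of_basicOpen (hE : Coh.IsQCoh E) {U : Y.Opens} (hU : IsAffineOpen U) (r : Γ(Y, U)) {x : X}
    (h : At q φ (Y.basicOpen r) x) : At q φ U x := by
  obtain ⟨e', hxe, he⟩ := h
  have hDU := Y.basicOpen_le r
  obtain ⟨n, e, hen⟩ := exists_res_eq hE hU r e'
  have hunit : IsUnit (ores hDU r) := RingedSpace.isUnit_res_basicOpen _ r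
  have hb1 : Y.basicOpen (ores hDU r) = Y.basicOpen r := Y.toRingedSpace.basicOpen_of_isUnit hunit
  have hb2 : Y.basicOpen (ores hDU r ^ n) = Y.basicOpen r :=
    Y.toRingedSpace.basicOpen_of_isUnit (hunit.pow n)
  have h1 : nz q φ (r • e) = nz q φ e' := by
    rw [nz_smul, ← nz_res q φ hDU, hen, nz_smul, hb2]
    exact inf_eq_right.mpr (nz_le q φ e')
  have hW' : nz q φ (r • e) ≤ q ⁻¹ᵁ (Y.basicOpen r) := h1.le.trans (nz_le q φ e')
  have hW : nz q φ (r • e) ≤ q ⁻¹ᵁ U := nz_le q φ _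
  refine ⟨r • e, by rw [h1]; exact hxe, himm_congr h1 _ _ ?_ he⟩
  -- notation
  let ρ : Γ(X, nz q φ (r • e)) := ores hW (q.app U r)
  have hρ : ρ ∈ ratioRing q φ (r • e) := app_mem_ratioRing q φ _ r
  obtain ⟨σ, hσ, hσe⟩ := exists_ratio q φ (r • e) e
  have hse : res L hW (se q φ (r • e)) = ρ • res L hW (se q φ e) := by rw [se_smul, res_smul]
  have hρσ : ρ * σ = 1 := by
    apply (isGen_nz q φ (r • e)).ext
    rw [mul_smul, ← hσe, one_smul, hse]
  -- functions from `D(r)`
  have hfun : ∀ {U' : Y.Opens} (hU'U : U' ≤ U) (hWU' : nz q φ (r • e) ≤ q ⁻¹ᵁ U') (a : Γ(Y, U)),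
      ores hWU' (q.app U' (ores hU'U a)) = ores hW (q.app U a) := by
    intro U' hU'U hWU' a
    have h2 : (q.app U' (ores hU'U a) : Γ(X, q ⁻¹ᵁ U')) = ores (q.preimage_mono hU'U) (q.app U a) :=
      congr(($(q.naturality (homOfLE hU'U).op)).hom a)
    rw [h2, ores_ores]
  have hsec : ∀ {U' : Y.Opens} (hU'U : U' ≤ U) (hWU' : nz q φ (r • e) ≤ q ⁻¹ᵁ U') (a : Γ(E, U)),
      res L hWU' (se q φ (res E hU'U a)) = res L hW (se q φ a) := by
    intro U' hU'U hWU' a
    rw [← res_se q φ hU'U, res_res]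
  intro b hb
  refine ores_mem_of_closure h1.le _ _ ?_ hb
  rintro b (⟨a', rfl⟩ | ⟨t', ht'⟩)
  · obtain ⟨m, a, ha⟩ := exists_ores_eq hU r a'
    have h2 : ρ ^ m * ores hW' (q.app _ a') = ores hW (q.app U a) := by
      rw [← hfun hDU hW' a, ha, map_mul, map_mul, map_pow, map_pow, hfun hDU hW' r]
    have h3 : ores hW' (q.app _ a') = σ ^ m * ores hW (q.app U a) := by
      rw [← h2, ← mul_assoc, ← mul_pow, mul_comm σ ρ, hρσ, one_pow, one_mul]
    dsimp only
    rw [ores_ores, h3]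
    exact mul_mem (pow_mem hσ m) (app_mem_ratioRing q φ _ a)
  · obtain ⟨m, t, ht⟩ := exists_res_eq hE hU r t'
    obtain ⟨c, hc, hct⟩ := exists_ratio q φ (r • e) t
    -- `se t = ρ ^ m • se t'`, `se e = ρ ^ n • se e'`
    have h2 : res L hW (se q φ t) = ρ ^ m • res L hW' (se q φ t') := by
      rw [← hsec hDU hW' t, ht, se_smul, res_smul, map_pow, map_pow, hfun hDU hW' r]
    have h3 : res L hW (se q φ e) = ρ ^ n • res L hW' (se q φ e') := by
      rw [← hsec hDU hW' e, hen, se_smul, res_smul, map_pow, map_pow, hfun hDU hW' r]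
    have h4 : res L hW' (se q φ t') = ores h1.le b • res L hW' (se q φ e') := by
      have := congrArg (res L h1.le) ht'
      rwa [res_smul, res_res, res_res] at this
    have h5 : ores h1.le b = c * σ ^ m * ρ ^ (n + 1) := by
      apply (isGen_nz q φ (r • e)).ext
      have e1 : ρ ^ m * σ ^ m = 1 := by rw [← mul_pow, hρσ, one_pow]
      have e2 : res L hW (se q φ (r • e)) = ρ ^ (n + 1) • res L hW' (se q φ e') := by
        rw [hse, h3, ← mul_smul, ← pow_succ']
      have e3 : res L hW' (se q φ t') = σ ^ m • res L hW (se q φ t) := by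
        rw [h2, ← mul_smul, mul_comm, e1, one_smul]
      calc ores h1.le b • res L hW (se q φ (r • e))
          = ρ ^ (n + 1) • (ores h1.le b • res L hW' (se q φ e')) := by rw [e2, smul_comm]
        _ = ρ ^ (n + 1) • (σ ^ m • (c • res L hW (se q φ (r • e)))) := by rw [← h4, e3, hct]
        _ = (c * σ ^ m * ρ ^ (n + 1)) • res L hW (se q φ (r • e)) := by
            rw [← mul_smul, ← mul_smul]
            congr 1
            ring
    rw [h5]
    exact mul_mem (mul_mem hc (pow_mem hσ m)) (pow_mem hρ _)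

/-- Between two affine opens. -/
theorem At.of_affine (hE : Coh.IsQCoh E) {U V : Y.Opens} (hU : IsAffineOpen U) (hV : IsAffineOpen V) {x : X}
    (hxU : x ∈ q ⁻¹ᵁ U) (hxV : x ∈ q ⁻¹ᵁ V) (h : At q φ V x) : At q φ U x := by
  obtain ⟨f, g, hfg, hx⟩ := exists_basicOpen_le_affine_inter hU hV (q x) ⟨hxU, hxV⟩
  refine At.of_basicOpen hE hU f ?_
  have : Y.basicOpen f ≤ V := by rw [hfg]; exact Y.basicOpen_le g
  exact h.mono this hx

/-- It is enough to check the condition on an affine cover. -/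
theorem va_of_cover (hE : Coh.IsQCoh E) (h : ∀ x : X, ∃ V : Y.Opens, IsAffineOpen V ∧ x ∈ q ⁻¹ᵁ V ∧ At q φ V x) :
    VA q φ := by
  intro U hU x hx
  obtain ⟨V, hV, hxV, hAt⟩ := h x
  exact At.of_affine hE hU hV hx hxV hAt

end K43.VADef
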