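import Groth.Agent.EGA2.K43.RelTw
import Groth.Agent.EGA2.K43.VADef
import Groth.Agent.Fdesc.GlueAff

/-!
# The canonical map `E ⟶ p_* O(1)` on a relative Proj

`Pack 𝒮 j`, for `j : E ⟶ 𝒮`: `j` lands in degree one, `𝒮_0 · j(E) ⊆ j(E)`, and `𝒮` is generated by `j(E)` over `𝒮_0` (over
every affine open).  For `IsRelProj 𝒮 p chart` and `IsRelTwist 𝒮 p chart 1 L lam`:
* `canMap hP hL hj : E ⟶ p_* L`, `canMap_app : canMap (x) = can (j x)`;
* under `Pack`: `nz_canMap` (the nonvanishing locus of `x` is `D_+(j x)`), `ratioRing_canMap = ⊤`, `exists_mem_nz`,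
  `isInvertible`, `va_canMap : VA p (canMap ..)`.
-/

set_option autoImplicit false
universe u

open CategoryTheory CategoryTheory.Limits AlgebraicGeometry TopologicalSpace Opposite

noncomputable section

namespace K43.CanMap

open Groth.Agent.Fdesc.LocGen Groth.Agent.Ega2.Nv K43.GrFrac K43.RelTw K43.VADef K43.HomImm RelProj

variable {S P : Scheme.{u}} {𝒮 : QCGrAlg S} {E : S.Modules} (j : E ⟶ 𝒮.toModule)

/-- The value of `j`, in the ring `𝒮(U)`. -/
def jv {U : S.Opens} (x : Γ(E, U)) : 𝒮.presheaf.obj (op U) := j.app U x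

theorem jv_add {U : S.Opens} (x y : Γ(E, U)) : jv j (x + y) = jv j x + jv j y := map_add (j.app U).hom x y

theorem jv_smul {U : S.Opens} (r : Γ(S, U)) (x : Γ(E, U)) :
    jv j (r • x) = (𝒮.str.app (op U)).hom r * jv j x := Scheme.Modules.Hom.app_smul j r x

theorem jv_res {U V : S.Opens} (h : V ≤ U) (x : Γ(E, U)) :
    jv j (res E h x) = (𝒮.presheaf.map (homOfLE h).op).hom (jv j x) := app_res j h x

/-- `j` lands in degree one. -/
def DegOne : Prop := ∀ (U : S.Opens) (hU : IsAffineOpen U) (x : Γ(E, U)), jv j x ∈ 𝒮.deg U hU 1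

/-- `𝒮` is generated by the degree-one elements `j(E)` over `𝒮_0`, and `j(E)` is stable by `𝒮_0`. -/
structure Pack : Prop where
  mem : DegOne j
  mul_mem : ∀ (U : S.Opens) (hU : IsAffineOpen U) (c : 𝒮.deg U hU 0) (x : Γ(E, U)),
    ∃ x' : Γ(E, U), jv j x' = c.1 * jv j x
  gen : ∀ (U : S.Opens) (hU : IsAffineOpen U), Algebra.adjoin (𝒮.deg U hU 0) (Set.range (jv j (U := U))) = ⊤

variable {j} {p : P ⟶ S}
  {chart : ∀ (U : S.Opens) (hU : IsAffineOpen U), (((p ⁻¹ᵁ U : P.Opens) : Scheme.{u}) ≅ Proj (𝒮.deg U hU))}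
  {L : P.Modules}
  {lam : ∀ (U : S.Opens) (hU : IsAffineOpen U),
    L ⟶ (Scheme.Modules.pushforward (emb p chart U hU)).obj (GrTwist.twist (𝒮.deg U hU) 1)}
  (hP : IsRelProj 𝒮 p chart) (hL : IsRelTwist 𝒮 p chart 1 L lam) (hj : DegOne j)

/-- The degree-one element `j x`. -/
abbrev j1 {U : S.Opens} (hU : IsAffineOpen U) (x : Γ(E, U)) : 𝒮.deg U hU 1 := ⟨jv j x, hj U hU x⟩

/-- The section of `O(1)` over `p⁻¹ U` attached to `x : Γ(E, U)`. -/
abbrev cs {U : S.Opens} (hU : IsAffineOpen U) (x : Γ(E, U)) : Γ(L, p ⁻¹ᵁ U) :=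
  can hL hU (i := 1) (n := 1) rfl (j1 hj hU x)

include hP in
theorem exists_canMap : ∃ φ : E ⟶ (Scheme.Modules.pushforward p).obj L,
    ∀ (V : S.affineOpens) (x : Γ(E, V.1)), φ.app V.1 x = cs hL hj V.2 x := by
  refine Groth.Agent.Fdesc.GlueAff.exists_hom_affine E ((Scheme.Modules.pushforward p).obj L)
    (fun V x => (show Γ((Scheme.Modules.pushforward p).obj L, V.1) from cs hL hj V.2 x)) ?_ ?_ ?_
  · intro V x y
    have h1 : j1 hj V.2 (x + y) = j1 hj V.2 x + j1 hj V.2 y := Subtype.ext (jv_add j x y)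
    change cs hL hj V.2 (x + y) = cs hL hj V.2 x + cs hL hj V.2 y
    rw [cs, h1, can_add]
  · intro V r x
    have h1 : j1 hj V.2 (r • x) = smulDeg V.2 r (j1 hj V.2 x) := Subtype.ext (jv_smul j r x)
    change cs hL hj V.2 (r • x) = (p.app V.1 r : Γ(P, p ⁻¹ᵁ V.1)) • cs hL hj V.2 x
    rw [cs, h1, can_smul hL V.2 _ hP]
  · intro V V' h x
    have h1 : j1 hj V'.2 (res E h x) = resDeg V.2 V'.2 h (j1 hj V.2 x) := Subtype.ext (jv_res j h x)
    change cs hL hj V'.2 (res E h x) = res L (p.preimage_mono h) (cs hL hj V.2 x)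
    rw [cs, h1, res_can hL V.2 _ hP V'.2 h]

/-- The canonical map `E ⟶ p_* O(1)`. -/
def canMap : E ⟶ (Scheme.Modules.pushforward p).obj L := (exists_canMap hP hL hj).choose

theorem canMap_app {U : S.Opens} (hU : IsAffineOpen U) (x : Γ(E, U)) :
    se p (canMap hP hL hj) x = cs hL hj hU x := (exists_canMap hP hL hj).choose_spec ⟨U, hU⟩ x

/-! ### Under `Pack` -/

omit hj in
theorem Pack.exists_notMem (hpk : Pack j) {U : S.Opens} (hU : IsAffineOpen U)
    (y : ProjectiveSpectrum (𝒮.deg U hU)) : ∃ x : Γ(E, U), jv j x ∉ y.asHomogeneousIdeal := by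
  have h1 := Proj.iSup_basicOpen_eq_top' (𝒮.deg U hU) (jv j (U := U)) (fun x => ⟨1, hpk.mem U hU x⟩) (hpk.gen U hU)
  have h2 : y ∈ (⨆ x, Proj.basicOpen (𝒮.deg U hU) (jv j (U := U) x) : (Proj (𝒮.deg U hU)).Opens) := by
    rw [h1]; trivial
  obtain ⟨x, hx⟩ := Opens.mem_iSup.mp h2
  exact ⟨x, hx⟩

variable (hpk : Pack j)

theorem nz_canMap {U : S.Opens} (hU : IsAffineOpen U) (x : Γ(E, U)) :
    nz p (canMap hP hL hpk.mem) x = Dp chart hU (jv j x) := by
  rw [nz, canMap_app hP hL hpk.mem hU x]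
  exact nv_can hL hU rfl (fun y => (hpk.exists_notMem hU y).imp' (fun x => j1 hpk.mem hU x) (fun _ h => h)) _

theorem isAffineOpen_nz {U : S.Opens} (hU : IsAffineOpen U) (x : Γ(E, U)) :
    IsAffineOpen (nz p (canMap hP hL hpk.mem) x) := by
  rw [nz_canMap hP hL hpk hU]
  exact isAffineOpen_Dp hU one_pos (j1 hpk.mem hU x)

theorem exists_mem_nz {U : S.Opens} (hU : IsAffineOpen U) (z : P) (hz : z ∈ p ⁻¹ᵁ U) :
    ∃ x : Γ(E, U), z ∈ nz p (canMap hP hL hpk.mem) x := by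
  rw [← K35.RelProjBasic.opensRange_emb (chart := chart) U hU] at hz
  obtain ⟨y, rfl⟩ := hz
  obtain ⟨x, hx⟩ := hpk.exists_notMem hU y
  refine ⟨x, ?_⟩
  rw [nz_canMap hP hL hpk hU, emb_mem_Dp]
  exact hx

include hP hL hpk in
theorem isInvertible : PicF.IsInvertible L := by
  rw [isInvertible_iff]
  intro z
  obtain ⟨V, hV, hzV, -⟩ := exists_isAffineOpen_mem_and_subset (x := p z) (U := ⊤) trivial
  obtain ⟨x, hx⟩ := exists_mem_nz hP hL hpk hV z hzV
  exact ⟨nz p (canMap hP hL hpk.mem) x, _, hx, isGen_nz p _ x⟩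

open HomogeneousLocalization in
theorem ratioRing_canMap {U : S.Opens} (hU : IsAffineOpen U) (e : Γ(E, U)) :
    ratioRing p (canMap hP hL hpk.mem) e = ⊤ := by
  set φ := canMap hP hL hpk.mem
  have hW : nz p φ e ≤ p ⁻¹ᵁ U := nz_le p φ e
  have hWD : nz p φ e = Dp chart hU (jv j e) := nz_canMap hP hL hpk hU e
  have hV : emb p chart U hU ⁻¹ᵁ nz p φ e = Proj.basicOpen (𝒮.deg U hU) (jv j e) := by
    rw [hWD, emb_preimage_Dp]
  -- the identification of rings
  let ρ : Γ(P, nz p φ e) →+* Γ(Proj (𝒮.deg U hU), Proj.basicOpen (𝒮.deg U hU) (jv j e)) :=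
    (ores hV.ge).comp ((emb p chart U hU).app (nz p φ e)).hom
  have hores : ∀ {V V' : (Proj (𝒮.deg U hU)).Opens} (h : V = V'), Function.Bijective (ores h.ge) := by
    rintro V _ rfl
    exact ⟨fun a b hab => by simpa using hab, fun a => ⟨a, by simp⟩⟩
  have hres : ∀ {V V' : (Proj (𝒮.deg U hU)).Opens} (h : V = V'),
      Function.Injective (res (GrTwist.twist (𝒮.deg U hU) 1) h.ge) := by
    rintro V _ rfl
    exact fun a b hab => by simpa using hab
  have hρ : Function.Bijective ρ :=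
    (hores hV).comp (bijective_app (emb p chart U hU) (le_opensRange chart hU hW))
  -- ratios
  have key : ∀ (t : Γ(E, U)) (c : Γ(P, nz p φ e)),
      globSec (n := 1) (i := 1) rfl (j1 hpk.mem hU t) (Proj.basicOpen (𝒮.deg U hU) (jv j e)) =
        ρ c • globSec (n := 1) (i := 1) rfl (j1 hpk.mem hU e) (Proj.basicOpen (𝒮.deg U hU) (jv j e)) →
      c ∈ ratioRing p φ e := by
    intro t c hc
    refine ratio_mem_ratioRing p φ e t ?_
    rw [canMap_app hP hL hpk.mem hU, canMap_app hP hL hpk.mem hU]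
    rw [rdU_ratio hL hU rfl hW]
    apply hres hV
    rw [res_smul]
    exact hc
  have htop : (ratioRing p φ e).map ρ = ⊤ := by
    refine subring_eq_top (hpk.mem U hU e) (Set.range (jv j (U := U))) ?_ (hpk.gen U hU) _ ?_ ?_
    · rintro _ ⟨t, rfl⟩
      exact hpk.mem U hU t
    · intro a
      obtain ⟨c, hc⟩ := hρ.2 ((Proj.awayToSection (𝒮.deg U hU) (jv j e)).hom (fromZeroRingHom (𝒮.deg U hU) _ a))
      refine ⟨c, ?_, hc⟩
      obtain ⟨x', hx'⟩ := hpk.mul_mem U hU a e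
      refine key x' c ?_
      rw [hc, ← awayToSection_fromZero_smul (hpk.mem U hU e) rfl a]
      congr 1
      exact Subtype.ext hx'
    · rintro _ ⟨t, rfl⟩
      obtain ⟨c, hc⟩ := hρ.2 ((Proj.awayToSection (𝒮.deg U hU) (jv j e)).hom
        (Away.mk (𝒮.deg U hU) (hpk.mem U hU e) 1 (jv j t) (by simpa using hpk.mem U hU t)))
      refine ⟨c, ?_, hc⟩
      refine key t c ?_
      rw [hc]
      exact awayToSection_mk_smul (hpk.mem U hU e) rfl _ _
  rw [eq_top_iff]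
  intro c _
  have h1 : ρ c ∈ (ratioRing p φ e).map ρ := by rw [htop]; trivial
  obtain ⟨c', hc', h2⟩ := h1
  rwa [← hρ.1 h2]

theorem va_canMap : VA p (canMap hP hL hpk.mem) := by
  intro U hU z hz
  obtain ⟨x, hx⟩ := exists_mem_nz hP hL hpk hU z hz
  refine ⟨x, hx, ?_⟩
  rw [ratioRing_canMap hP hL hpk hU]
  exact HImm.of_affine (isAffineOpen_nz hP hL hpk hU x)

end K43.CanMap

end
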