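import Groth.Agent.EGA2.K43.CanMap
import Groth.Agent.QCohSup.K27.QCAlgBasic
import Groth.Agent.PerfA.QCohSerre
import Groth.Agent.CohqB.FiniteType2

/-!
# The degree-`d` part of a quasi-coherent graded algebra, as a module

* `prHom 𝒮 d : 𝒮.toModule ⟶ 𝒮.toModule`: the projection to the degree-`d` part (`prHom_app` on affine opens);
* `piece 𝒮 d : S.Modules`, `pieceι 𝒮 d : piece 𝒮 d ⟶ 𝒮.toModule` (mono): `pieceι_mem`, `exists_pieceι` (over an affine open the
  sections are the elements of degree `d`), `isQCoh_piece`, `isFT_piece` (from `IsFTDeg d`);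
* `pack_piece`: `Pack (pieceι 𝒮 1)` when `𝒮` is generated in degree one; `Pack.of_gen` (generation over the base).
-/

set_option autoImplicit false
universe u

open CategoryTheory CategoryTheory.Limits AlgebraicGeometry TopologicalSpace Opposite

noncomputable section

namespace K43.Piece

open Groth.Agent.Fdesc.LocGen K43.CanMap RelProj

variable {S : Scheme.{u}} (𝒮 : QCGrAlg S) (d : ℕ)

theorem decompose_res {U V : S.Opens} (hU : IsAffineOpen U) (hV : IsAffineOpen V) (h : V ≤ U)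
    (x : 𝒮.presheaf.obj (op U)) :
    (DirectSum.decompose (𝒮.deg V hV) (𝒮.res hU hV h x) d : 𝒮.presheaf.obj (op V)) =
      𝒮.res hU hV h (DirectSum.decompose (𝒮.deg U hU) x d : 𝒮.presheaf.obj (op U)) :=
  ((𝒮.res hU hV h).map_directSumDecompose).symm

theorem exists_prHom : ∃ φ : 𝒮.toModule ⟶ 𝒮.toModule,
    ∀ (V : S.affineOpens) (x : 𝒮.presheaf.obj (op V.1)),
      φ.app V.1 x = (DirectSum.decompose (𝒮.deg V.1 V.2) x d : 𝒮.presheaf.obj (op V.1)) := by
  refine Groth.Agent.Fdesc.GlueAff.exists_hom_affine 𝒮.toModule 𝒮.toModule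
    (fun V x => (DirectSum.decompose (𝒮.deg V.1 V.2) (show 𝒮.presheaf.obj (op V.1) from x) d :
      𝒮.presheaf.obj (op V.1))) ?_ ?_ ?_
  · intro V x y
    change ((DirectSum.decompose (𝒮.deg V.1 V.2) ((show 𝒮.presheaf.obj (op V.1) from x) +
      (show 𝒮.presheaf.obj (op V.1) from y)) d : 𝒮.presheaf.obj (op V.1))) = _
    rw [DirectSum.decompose_add, DirectSum.add_apply]
    rfl
  · intro V r x
    change ((DirectSum.decompose (𝒮.deg V.1 V.2) ((𝒮.str.app (op V.1)).hom r *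
      (show 𝒮.presheaf.obj (op V.1) from x)) d : 𝒮.presheaf.obj (op V.1))) = (𝒮.str.app (op V.1)).hom r * _
    exact DirectSum.coe_decompose_mul_of_left_mem_zero (𝒮.deg V.1 V.2) (𝒮.str_mem V.1 V.2 r)
  · intro V V' h x
    exact decompose_res 𝒮 d V.2 V'.2 h x

/-- The projection to the degree-`d` part. -/
def prHom : 𝒮.toModule ⟶ 𝒮.toModule := (exists_prHom 𝒮 d).choose

theorem prHom_app {U : S.Opens} (hU : IsAffineOpen U) (x : 𝒮.presheaf.obj (op U)) :
    jv (prHom 𝒮 d) (U := U) x = (DirectSum.decompose (𝒮.deg U hU) x d : 𝒮.presheaf.obj (op U)) :=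
  (exists_prHom 𝒮 d).choose_spec ⟨U, hU⟩ x

/-- The degree-`d` part, as a module over the structure sheaf. -/
def piece : S.Modules := kernel (𝟙 _ - prHom 𝒮 d)

/-- The inclusion of the degree-`d` part. -/
def pieceι : piece 𝒮 d ⟶ 𝒮.toModule := kernel.ι _

instance : Mono (pieceι 𝒮 d) := inferInstanceAs (Mono (kernel.ι _))

theorem pieceι_injective (U : S.Opens) : Function.Injective (fun s : Γ(piece 𝒮 d, U) => jv (pieceι 𝒮 d) s) :=
  Groth.Agent.CohqB.FiniteType2.appLinear_injective (pieceι 𝒮 d) U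

theorem kernel_exact {F G : S.Modules} (u : F ⟶ G) (V : S.Opens) :
    Function.Exact (Groth.Agent.CohqB.FiniteType2.appLinear (kernel.ι u) V)
      (Groth.Agent.CohqB.FiniteType2.appLinear u V) := by
  have h : (ShortComplex.mk (kernel.ι u) u (kernel.condition u)).Exact :=
    ShortComplex.exact_of_f_is_kernel _ (kernelIsKernel u)
  exact Groth.Agent.CohqB.FiniteType2.sections_exact _ h V

theorem mem_range_pieceι_iff {U : S.Opens} (hU : IsAffineOpen U) (x : 𝒮.presheaf.obj (op U)) :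
    (∃ s : Γ(piece 𝒮 d, U), jv (pieceι 𝒮 d) s = x) ↔ x ∈ 𝒮.deg U hU d := by
  have h1 := kernel_exact (𝟙 𝒮.toModule - prHom 𝒮 d) U (show Γ(𝒮.toModule, U) from x)
  have h2 : (Groth.Agent.CohqB.FiniteType2.appLinear (𝟙 𝒮.toModule - prHom 𝒮 d) U)
      (show Γ(𝒮.toModule, U) from x) = 0 ↔ x ∈ 𝒮.deg U hU d := by
    have h3 : (Groth.Agent.CohqB.FiniteType2.appLinear (𝟙 𝒮.toModule - prHom 𝒮 d) U)
      (show Γ(𝒮.toModule, U) from x) = (show Γ(𝒮.toModule, U) from
        (x - (DirectSum.decompose (𝒮.deg U hU) x d : 𝒮.presheaf.obj (op U)))) := by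
      rw [← prHom_app 𝒮 d hU x]
      rfl
    rw [h3]
    change x - (DirectSum.decompose (𝒮.deg U hU) x d : 𝒮.presheaf.obj (op U)) = 0 ↔ _
    rw [sub_eq_zero]
    constructor
    · intro h4; rw [h4]; exact SetLike.coe_mem _
    · intro h4; exact (DirectSum.decompose_of_mem_same (𝒮.deg U hU) h4).symm
  rw [← h2, h1]
  exact Iff.rfl

theorem pieceι_mem {U : S.Opens} (hU : IsAffineOpen U) (s : Γ(piece 𝒮 d, U)) :
    jv (pieceι 𝒮 d) s ∈ 𝒮.deg U hU d := (mem_range_pieceι_iff 𝒮 d hU _).1 ⟨s, rfl⟩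

theorem exists_pieceι {U : S.Opens} (hU : IsAffineOpen U) {x : 𝒮.presheaf.obj (op U)} (hx : x ∈ 𝒮.deg U hU d) :
    ∃ s : Γ(piece 𝒮 d, U), jv (pieceι 𝒮 d) s = x := (mem_range_pieceι_iff 𝒮 d hU _).2 hx

theorem isQCoh_piece : Coh.IsQCoh (piece 𝒮 d) :=
  Groth.Agent.PerfA.QCohSerre.isQCoh_kernel _ (K27.QCAlgBasic.isQCoh_toModule 𝒮.toQCAlg)
    (K27.QCAlgBasic.isQCoh_toModule 𝒮.toQCAlg)

theorem isFT_piece (h : 𝒮.IsFTDeg d) : CohB1.IsFT (piece 𝒮 d) := by
  classical
  have : Coh.IsQCoh (piece 𝒮 d) := isQCoh_piece 𝒮 d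
  refine (Groth.Agent.CohqB.FiniteType2.isFT_iff_finite_sections (piece 𝒮 d)).mpr ?_
  intro V hV
  obtain ⟨T, hT, hgen⟩ := h V hV
  choose s hs using fun t : T => exists_pieceι 𝒮 d hV (hT t.2)
  refine ⟨⟨Finset.univ.image s, ?_⟩⟩
  rw [eq_top_iff]
  intro x _
  obtain ⟨c, hc⟩ := hgen _ (pieceι_mem 𝒮 d hV x)
  have h1 : x = ∑ t : T, c t.1 • s t := by
    apply pieceι_injective 𝒮 d V
    dsimp only
    rw [hc, ← Finset.sum_coe_sort]
    have h2 : ∀ (W : Finset T), jv (pieceι 𝒮 d) (∑ t ∈ W, c t.1 • s t) =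
        ∑ t ∈ W, (𝒮.str.app (op V)).hom (c t.1) * t.1 := by
      intro W
      induction W using Finset.induction_on with
      | empty => rw [Finset.sum_empty, Finset.sum_empty]; exact map_zero ((pieceι 𝒮 d).app V).hom
      | insert a W ha ih => rw [Finset.sum_insert ha, Finset.sum_insert ha, jv_add, jv_smul, ih, hs]
    exact (h2 Finset.univ).symm
  rw [h1]
  refine Submodule.sum_mem _ fun t _ => Submodule.smul_mem _ _ (Submodule.subset_span ?_)
  simp

theorem adjoin_eq_top {A σ : Type u} [CommRing A] [SetLike σ A] [AddSubgroupClass σ A] {𝒜 : ℕ → σ} [GradedRing 𝒜]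
    {T : Set A} (h : Subring.closure ((𝒜 0 : Set A) ∪ T) = ⊤) : Algebra.adjoin (𝒜 0) T = ⊤ := by
  rw [eq_top_iff]
  intro x _
  have hx : x ∈ Subring.closure ((𝒜 0 : Set A) ∪ T) := by rw [h]; trivial
  have hle : Subring.closure ((𝒜 0 : Set A) ∪ T) ≤ (Algebra.adjoin (𝒜 0) T).toSubring := by
    rw [Subring.closure_le]
    rintro a (ha | ha)
    · exact Subalgebra.algebraMap_mem _ (⟨a, ha⟩ : 𝒜 0)
    · exact Algebra.subset_adjoin ha
  exact hle hx

/-- `𝒮_1` has the package when `𝒮` is generated in degree one. -/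
theorem pack_piece (h : 𝒮.IsGenDegOne) : Pack (pieceι 𝒮 1) where
  mem U hU x := pieceι_mem 𝒮 1 hU x
  mul_mem U hU c x := by
    have h1 := SetLike.mul_mem_graded (A := 𝒮.deg U hU) c.2 (pieceι_mem 𝒮 1 hU x)
    rw [zero_add] at h1
    exact exists_pieceι 𝒮 1 hU h1
  gen U hU := by
    apply adjoin_eq_top
    have h1 : Set.range (jv (pieceι 𝒮 1) (U := U)) = (𝒮.deg U hU 1 : Set _) :=
      Set.ext fun x => mem_range_pieceι_iff 𝒮 1 hU x
    rw [h1]
    exact h U hU

variable {𝒮} in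
/-- When `𝒮(U)` is generated over `O(U)` by degree-one elements, `𝒮(U)_0` is the image of `O(U)`. -/
theorem exists_str_eq {U : S.Opens} (hU : IsAffineOpen U) {T : Set (𝒮.presheaf.obj (op U))}
    (hT : ∀ t ∈ T, t ∈ 𝒮.deg U hU 1)
    (hgen : Subring.closure (Set.range (𝒮.str.app (op U)).hom ∪ T) = ⊤) {c : 𝒮.presheaf.obj (op U)}
    (hc : c ∈ 𝒮.deg U hU 0) : ∃ r, (𝒮.str.app (op U)).hom r = c := by
  have key : ∀ x ∈ Subring.closure (Set.range (𝒮.str.app (op U)).hom ∪ T),
      GradedRing.projZeroRingHom (𝒮.deg U hU) x ∈ (𝒮.str.app (op U)).hom.range := by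
    intro x hx
    induction hx using Subring.closure_induction with
    | mem x hx =>
      rcases hx with ⟨r, rfl⟩ | hx
      · refine ⟨r, ?_⟩
        rw [GradedRing.projZeroRingHom_apply]
        exact (DirectSum.decompose_of_mem_same (𝒮.deg U hU) (𝒮.str_mem U hU r)).symm
      · rw [GradedRing.projZeroRingHom_apply, DirectSum.decompose_of_mem_ne (𝒮.deg U hU) (hT x hx) one_ne_zero]
        exact zero_mem _
    | zero => rw [map_zero]; exact zero_mem _
    | one => rw [map_one]; exact one_mem _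
    | add x y _ _ hx hy => rw [map_add]; exact add_mem hx hy
    | neg x _ hx => rw [map_neg]; exact neg_mem hx
    | mul x y _ _ hx hy => rw [map_mul]; exact mul_mem hx hy
  have h1 := key c (by rw [hgen]; trivial)
  rw [GradedRing.projZeroRingHom_apply, DirectSum.decompose_of_mem_same (𝒮.deg U hU) hc] at h1
  exact h1

variable {𝒮} in
/-- The package, from generation over the base. -/
theorem pack_of_gen {E : S.Modules} {j : E ⟶ 𝒮.toModule} (hj : DegOne j)
    (hgen : ∀ (U : S.Opens) (_ : IsAffineOpen U),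
      Subring.closure (Set.range (𝒮.str.app (op U)).hom ∪ Set.range (jv j (U := U))) = ⊤) : Pack j where
  mem := hj
  mul_mem U hU c x := by
    obtain ⟨r, hr⟩ := exists_str_eq hU (by rintro _ ⟨t, rfl⟩; exact hj U hU t) (hgen U hU) c.2
    exact ⟨r • x, by rw [jv_smul, hr]⟩
  gen U hU := by
    apply adjoin_eq_top
    rw [eq_top_iff, ← hgen U hU]
    apply Subring.closure_mono
    apply Set.union_subset_union_left
    rintro _ ⟨r, rfl⟩
    exact 𝒮.str_mem U hU r

end K43.Piece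

end
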