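import Groth.Agent.EGA2.K43.VAImmersion
import Groth.Agent.EGA2.K43.GrSym
import Groth.Agent.PerfB.ModExact
import Groth.Agent.S8258
import Groth.Agent.S8284
import Groth.Agent.S5733

/-!
# The section-level condition implies relative very ampleness

* `epi_of_gen`: `q^* E ⟶ L` is an epimorphism when the sections `φ e` generate `L`;
* `isRelVeryAmple_of_va`, `isRelVeryAmple_iff`.
-/

set_option autoImplicit false
universe u
open CategoryTheory CategoryTheory.Limits AlgebraicGeometry TopologicalSpace Opposite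

namespace K43.VABackward

open Groth.Agent.Fdesc.LocGen Groth.Agent.Ega2.Nv K43.GrFrac K43.RelTw K43.CanMap K43.Piece K43.HomImm K43.VADef
  K43.VAImm RelProj

variable {X Y : Scheme.{u}} (q : X ⟶ Y) {E : Y.Modules} {L : X.Modules}

/-- Sections of `L` coming from `E` generate `L`: the morphism `q^* E ⟶ L` is an epimorphism. -/
theorem epi_of_gen (φ : E ⟶ (Scheme.Modules.pushforward q).obj L)
    (h : ∀ x : X, ∃ (V : Y.Opens) (e : Γ(E, V)), x ∈ nz q φ e) :
    Epi (((Scheme.Modules.pullbackPushforwardAdjunction q).homEquiv E L).symm φ) := by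
  set s := ((Scheme.Modules.pullbackPushforwardAdjunction q).homEquiv E L).symm φ with hs
  have hφ : φ = (Scheme.Modules.pullbackPushforwardAdjunction q).homEquiv E L s := by rw [hs]; simp
  refine Groth.Agent.PerfB.ModExact.epi_of_locally_surjective _ fun U y x hx => ?_
  obtain ⟨V, e, he⟩ := h x
  have hle : U ⊓ nz q φ e ≤ q ⁻¹ᵁ V := inf_le_right.trans (nz_le q φ e)
  have hg : IsGen (res L hle (se q φ e)) := (le_nv_iff L _ hle).1 inf_le_right
  obtain ⟨a, ha⟩ := hg.exists_eq (res L inf_le_left y)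
  refine ⟨U ⊓ nz q φ e, inf_le_left, ⟨hx, he⟩, a • res _ hle (pullSec q e), ?_⟩
  have h1 := app_res s hle (pullSec q e)
  have h2 : s.app (q ⁻¹ᵁ V) (pullSec q e) = se q φ e := by
    rw [← homEquiv_app q s e, ← hφ]; rfl
  have h3 := Scheme.Modules.Hom.app_smul s a (res _ hle (pullSec q e))
  refine h3.trans ?_
  refine Eq.trans ?_ ha.symm
  refine congrArg (fun z : Γ(L, U ⊓ nz q φ e) => a • z) ?_
  exact h1.trans (congrArg (res L hle) h2)

theorem exists_affine_nhd (x : X) : ∃ V : Y.Opens, IsAffineOpen V ∧ x ∈ q ⁻¹ᵁ V := by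
  obtain ⟨V, hV, hzV, -⟩ := exists_isAffineOpen_mem_and_subset (x := q x) (U := ⊤) trivial
  exact ⟨V, hV, hzV⟩

theorem exists_nz_of_va {φ : E ⟶ (Scheme.Modules.pushforward q).obj L} (h : VA q φ) (x : X) :
    ∃ (V : Y.Opens) (e : Γ(E, V)), x ∈ nz q φ e := by
  obtain ⟨V, hV, hx⟩ := exists_affine_nhd q x
  obtain ⟨e, he, -⟩ := h V hV x hx
  exact ⟨V, e, he⟩

section rl

variable {P : Scheme.{u}} {𝒮 : QCGrAlg Y} {j : E ⟶ 𝒮.toModule}
  (hj : DegOne j) {p : P ⟶ Y}
  {chart : ∀ (U : Y.Opens) (hU : IsAffineOpen U), (((p ⁻¹ᵁ U : P.Opens) : Scheme.{u}) ≅ Proj (𝒮.deg U hU))}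
  (hP : IsRelProj 𝒮 p chart) {O1 : P.Modules}
  {lam : ∀ (U : Y.Opens) (hU : IsAffineOpen U),
    O1 ⟶ (Scheme.Modules.pushforward (emb p chart U hU)).obj (GrTwist.twist (𝒮.deg U hU) 1)}
  (hO1 : IsRelTwist 𝒮 p chart 1 O1 lam)

/-- The values of the canonical sections, in the form of the statements `S5732`, `S5733`. -/
theorem canMap_val (U : Y.Opens) (hU : IsAffineOpen U) (e : Γ(E, U))
    (y : ↥(emb p chart U hU ⁻¹ᵁ (p ⁻¹ᵁ U))) :
    GrTwist.val (V := emb p chart U hU ⁻¹ᵁ (p ⁻¹ᵁ U))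
        ((lam U hU).app (p ⁻¹ᵁ U) (((canMap hP hO1 hj).app U) e)) y =
      algebraMap (𝒮.presheaf.obj (op U)) (GrTwist.Loc (𝒮.deg U hU) y.1)
        ((j.app U) e : 𝒮.presheaf.obj (op U)) := by
  have h1 : rdU lam hU (se p (canMap hP hO1 hj) e) = globSec (n := 1) (i := 1) rfl (j1 hj hU e) _ := by
    rw [canMap_app hP hO1 hj hU, rdU_can]
  exact (congrArg (fun t => GrTwist.val t y) h1).trans (val_globSec _ _ _ y)

/-- The compatibility of `S5733`, read on sections. -/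
theorem se_of_comp {r : X ⟶ P} {c : E ⟶ (Scheme.Modules.pushforward p).obj O1}
    {s : (Scheme.Modules.pullback (r ≫ p)).obj E ⟶ L} (τ : (Scheme.Modules.pullback r).obj O1 ⟶ L)
    (h : (Scheme.Modules.pullbackComp r p).inv.app E ≫ (Scheme.Modules.pullback r).map
          (((Scheme.Modules.pullbackPushforwardAdjunction p).homEquiv E O1).symm c) ≫ τ = s)
    {U : Y.Opens} (e : Γ(E, U)) :
    s.app _ (pullSec (r ≫ p) e) = (show Γ(L, (r ≫ p) ⁻¹ᵁ U) from τ.app _ (pullSec r (se p c e))) := by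
  rw [← h]
  have h1 := pullSec_comp r p e
  set b := ((Scheme.Modules.pullbackPushforwardAdjunction p).homEquiv E O1).symm c with hb
  have hc : c = (Scheme.Modules.pullbackPushforwardAdjunction p).homEquiv E O1 b := by rw [hb]; simp
  have h2 : b.app _ (pullSec p e) = se p c e := by
    rw [← homEquiv_app p b e, ← hc]; rfl
  have h3 := pullback_map_pullSec r b (pullSec p e)
  rw [h2] at h3
  rw [← h3, ← h1]
  rfl

end rl

/-- The section-level condition gives an immersion into the projective bundle, for the same `E`. -/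
theorem exists_immersion_of_va (hL : PicF.IsInvertible L) (hE : Coh.IsQCoh E)
    (φ : E ⟶ (Scheme.Modules.pushforward q).obj L) (hφ : VA q φ) :
    ∃ (𝒮 : QCGrAlg Y) (j : E ⟶ 𝒮.toModule) (_ : IsGrSymAlg E 𝒮 j)
      (P : Scheme.{u}) (p : P ⟶ Y)
      (chart : ∀ (U : Y.Opens) (hU : IsAffineOpen U), (((p ⁻¹ᵁ U : P.Opens) : Scheme.{u}) ≅ Proj (𝒮.deg U hU)))
      (_ : IsRelProj 𝒮 p chart) (O1 : P.Modules)
      (lam : ∀ (U : Y.Opens) (hU : IsAffineOpen U),
        O1 ⟶ (Scheme.Modules.pushforward (emb p chart U hU)).obj (GrTwist.twist (𝒮.deg U hU) 1))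
      (_ : IsRelTwist 𝒮 p chart 1 O1 lam) (i : X ⟶ P),
      IsImmersion i ∧ i ≫ p = q ∧ Nonempty (L ≅ (Scheme.Modules.pullback i).obj O1) := by
  obtain ⟨𝒮, j, hj⟩ := GrSym.exists_grSym hE
  obtain ⟨P, p, chart, hP⟩ := Groth.Agent.S8258.result 𝒮
  obtain ⟨O1, lam, hO1⟩ := Groth.Agent.S8284.result 𝒮 p chart hP 1
  have hpk : Pack j := VAForward.pack_sym hE hj
  have hepi := epi_of_gen q φ (exists_nz_of_va q hφ)
  obtain ⟨r, ⟨hr, τ, hτ⟩, -⟩ := Groth.Agent.S5733.result E hE 𝒮 j hj p chart hP O1 lam hO1 (canMap hP hO1 hpk.mem)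
    (canMap_val hpk.mem hP hO1) q L hL _ hepi
  subst hr
  refine ⟨𝒮, j, hj, P, p, chart, hP, O1, lam, hO1, r, ?_, rfl, ⟨τ.symm⟩⟩
  refine VAImmersion.isImmersion_of_va hpk hP hO1 r τ.hom φ ?_ hφ
  intro U hU e
  have h1 : (Scheme.Modules.pullbackCongr (rfl : r ≫ p = r ≫ p)).inv.app E = 𝟙 _ := rfl
  rw [h1, Category.id_comp] at hτ
  rw [← se_of_comp τ.hom hτ e]
  have h2 := homEquiv_app (r ≫ p) (((Scheme.Modules.pullbackPushforwardAdjunction (r ≫ p)).homEquiv E L).symm φ) e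
  rw [Equiv.apply_symm_apply] at h2
  exact h2

/-- The section-level condition implies relative very ampleness. -/
theorem isRelVeryAmple_of_va (hL : PicF.IsInvertible L) (hE : Coh.IsQCoh E)
    (φ : E ⟶ (Scheme.Modules.pushforward q).obj L) (hφ : VA q φ) : IsRelVeryAmple q L :=
  ⟨E, hE, exists_immersion_of_va q hL hE φ hφ⟩

theorem isRelVeryAmple_iff (hL : PicF.IsInvertible L) : IsRelVeryAmple q L ↔
    ∃ (E : Y.Modules) (_ : Coh.IsQCoh E) (φ : E ⟶ (Scheme.Modules.pushforward q).obj L), VA q φ :=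
  ⟨VAForward.exists_va, fun ⟨_, hE, φ, hφ⟩ => isRelVeryAmple_of_va q hL hE φ hφ⟩

end K43.VABackward
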