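import Groth.Agent.EGA2.K43.RelTw
import Groth.Agent.EGA2.K43.VADef
import Groth.Agent.EGA2.K32.VAPull
import Groth.Agent.EGA2.K42.VAMisc
import Groth.Agent.Ega2.QCohLocal
import Groth.Agent.PerfC.PullRestrict
import Groth.Prelude.Def_LCI2
import Groth.Prelude.Def_FlatMod2

/-!
# The section-level condition with a free module; projective space

* `freeHom q s : O_Y^n ⟶ q_* L` attached to global sections `s : Fin n → Γ(L, ⊤)`, `bs U i` the basis sections, `se_bs`;
* `va_projSpace : VA (ProjSpace.toSpec n R) (freeHom _ (coord n R))`, `O(1)` on `P^n_R`;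
* `exists_va_of_pn`: `IsRelVeryAmplePn q L` gives `n` and `φ : O_Y^(n+1) ⟶ q_* L` with `VA q φ`;
  `isInvertible_of_pn`.
-/

set_option autoImplicit false
universe u
open CategoryTheory CategoryTheory.Limits AlgebraicGeometry TopologicalSpace Opposite

noncomputable section

namespace K43.VAFree

open Groth.Agent.Fdesc.LocGen Groth.Agent.Ega2.Nv K43.GrFrac K43.RelTw K43.VADef K43.HomImm

section free

variable {X Y : Scheme.{u}} (q : X ⟶ Y) {L : X.Modules} {n : ℕ} (s : Fin n → Γ(L, ⊤))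

/-- The morphism `O_Y^n ⟶ q_* L` attached to `n` global sections. -/
def freeHom : FlatMod.freeMod Y n ⟶ (Scheme.Modules.pushforward q).obj L :=
  Sigma.desc (fun i => homOf (show Γ((Scheme.Modules.pushforward q).obj L, ⊤) from s i))

/-- The basis sections of the free module. -/
def bs (Y : Scheme.{u}) {n : ℕ} (U : Y.Opens) (i : Fin n) : Γ(FlatMod.freeMod Y n, U) :=
  sec (Sigma.ι (fun _ : Fin n => Coh.structureModule Y) i) U

theorem se_bs (U : Y.Opens) (i : Fin n) : se q (freeHom q s) (bs Y U i) = res L le_top (s i) := by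
  have h1 : se q (freeHom q s) (bs Y U i) =
      sec (homOf (show Γ((Scheme.Modules.pushforward q).obj L, ⊤) from s i)) U := by
    rw [← Sigma.ι_desc (fun i => homOf (show Γ((Scheme.Modules.pushforward q).obj L, ⊤) from s i)) i, sec_comp]
    rfl
  rw [h1, sec_homOf]
  rfl

theorem nz_bs (U : Y.Opens) (i : Fin n) : nz q (freeHom q s) (bs Y U i) = q ⁻¹ᵁ U ⊓ nv L (s i) := by
  rw [nz, se_bs, nv_res]

end free

section proj

variable {A σ : Type u} [CommRing A] [SetLike σ A] [AddSubgroupClass σ A] {𝒜 : ℕ → σ} [GradedRing 𝒜] {n : ℕ}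
  (t : Fin n → 𝒜 1) (hgen : Algebra.adjoin (𝒜 0) (Set.range fun i => (t i : A)) = ⊤)
  {S : Scheme.{u}} (g : Proj 𝒜 ⟶ S) {U : S.Opens} (hU : IsAffineOpen U) (c : Γ(S, U) ⟶ CommRingCat.of (𝒜 0))
  (hc : Function.Surjective c) (hg : g = Proj.toSpecZero 𝒜 ≫ Spec.map c ≫ hU.fromSpec)

/-- The sections `t i / 1` of `O(1)`. -/
def ts (i : Fin n) : Γ(GrTwist.twist 𝒜 1, ⊤) := globSec (i := 1) rfl (t i) ⊤

include hgen in
theorem exists_notMem (y : ProjectiveSpectrum 𝒜) : ∃ i, (t i : A) ∉ y.asHomogeneousIdeal := by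
  have h1 := Proj.iSup_basicOpen_eq_top' 𝒜 (fun i => (t i : A)) (fun i => ⟨1, (t i).2⟩) hgen
  have h2 : y ∈ (⨆ i, Proj.basicOpen 𝒜 (t i : A) : (Proj 𝒜).Opens) := by rw [h1]; trivial
  obtain ⟨x, hx⟩ := Opens.mem_iSup.mp h2
  exact ⟨x, hx⟩

include hgen in
theorem nv_ts (i : Fin n) : nv (GrTwist.twist 𝒜 1) (ts t i) = Proj.basicOpen 𝒜 (t i : A) := by
  apply le_antisymm
  · exact nv_globSec_le rfl (t i) ⊤ fun y => (exists_notMem t hgen y).imp' t fun _ h => h
  · rw [le_nv_iff _ _ le_top]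
    exact isGen_globSec rfl (t i) _ fun x hx => hx

include hgen hg in
theorem nz_ts (i : Fin n) : nz g (freeHom g (ts t)) (bs S U i) = Proj.basicOpen 𝒜 (t i : A) := by
  rw [nz_bs, nv_ts t hgen]
  exact inf_eq_right.mpr (le_preimage g hU c hg _)

open HomogeneousLocalization in
include hgen hg hc in
theorem ratioRing_ts (i : Fin n) : ratioRing g (freeHom g (ts t)) (bs S U i) = ⊤ := by
  have hW := nz_ts t hgen g hU c hg i
  have hWU : nz g (freeHom g (ts t)) (bs S U i) ≤ g ⁻¹ᵁ U := nz_le _ _ _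
  have hores : ∀ {V V' : (Proj 𝒜).Opens} (h : V = V'), Function.Bijective (ores h.ge) := by
    rintro V _ rfl
    exact ⟨fun a b hab => by simpa using hab, fun a => ⟨a, by simp⟩⟩
  have hres : ∀ {V V' : (Proj 𝒜).Opens} (h : V = V'),
      Function.Injective (res (GrTwist.twist 𝒜 1) h.ge) := by
    rintro V _ rfl
    exact fun a b hab => by simpa using hab
  have hse : ∀ k, res (GrTwist.twist 𝒜 1) hWU (se g (freeHom g (ts t)) (bs S U k)) = globSec (i := 1) rfl (t k) _ := by
    intro k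
    rw [se_bs, res_res]
    rfl
  have htop : (ratioRing g (freeHom g (ts t)) (bs S U i)).map (ores hW.ge) = ⊤ := by
    refine subring_eq_top (t i).2 (Set.range fun i => (t i : A)) ?_ hgen _ ?_ ?_
    · rintro _ ⟨k, rfl⟩
      exact (t k).2
    · intro a
      obtain ⟨b, rfl⟩ := hc a
      refine ⟨ores hWU (g.app U b), app_mem_ratioRing _ _ _ b, ?_⟩
      have h1 := appLE_basicOpen g hU c hg one_pos (t i) (le_preimage g hU c hg _)
      rw [ores_ores]
      exact congr(($h1).hom b)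
    · rintro _ ⟨k, rfl⟩
      obtain ⟨b, hb⟩ := (hores hW).2 ((Proj.awayToSection 𝒜 (t i : A)).hom
        (Away.mk 𝒜 (t i).2 1 (t k : A) (by simp)))
      refine ⟨b, ?_, hb⟩
      refine ratio_mem_ratioRing g _ _ (bs S U k) ?_
      apply hres hW
      rw [hse, hse, res_smul, hb, res_globSec, res_globSec]
      exact awayToSection_mk_smul (t i).2 rfl (t k : A) (t k).2
  rw [eq_top_iff]
  intro b _
  have h1 : ores hW.ge b ∈ (ratioRing g (freeHom g (ts t)) (bs S U i)).map (ores hW.ge) := by rw [htop]; trivial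
  obtain ⟨b', hb', h2⟩ := h1
  rwa [← (hores hW).1 h2]

include hgen hg hc in
theorem va_proj : VA g (freeHom g (ts t)) := by
  refine va_of_cover (Groth.Agent.Ega2.QCohLocal.isQCoh_freeMod S n) fun x => ?_
  obtain ⟨i, hi⟩ := exists_notMem t hgen x
  refine ⟨U, hU, le_preimage g hU c hg ⊤ trivial, bs S U i, ?_, ?_⟩
  · rw [nz_ts t hgen g hU c hg]; exact hi
  · rw [ratioRing_ts t hgen g hU c hc hg]
    refine HImm.of_affine ?_
    rw [nz_ts t hgen g hU c hg]
    exact Proj.isAffineOpen_basicOpen 𝒜 (t i : A) (t i).2 one_pos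

end proj

section pn

variable (n : ℕ) (R : Type u) [CommRing R]

theorem adjoin_X : Algebra.adjoin (CohB1.polyGrading n R 0)
    (Set.range (fun i : Fin (n + 1) => (MvPolynomial.X i : MvPolynomial (Fin (n + 1)) R))) = ⊤ := by
  rw [eq_top_iff]
  rintro p -
  induction p using MvPolynomial.induction_on with
  | C a =>
    have h1 : (MvPolynomial.C a : MvPolynomial (Fin (n + 1)) R) ∈ CohB1.polyGrading n R 0 :=
      MvPolynomial.isHomogeneous_C _ a
    exact Subalgebra.algebraMap_mem _ (⟨_, h1⟩ : CohB1.polyGrading n R 0)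
  | add p q hp hq => exact Subalgebra.add_mem _ hp hq
  | mul_X p i hp => exact Subalgebra.mul_mem _ hp (Algebra.subset_adjoin ⟨i, rfl⟩)

theorem algebraMap_zero_surjective : Function.Surjective (algebraMap R (CohB1.polyGrading n R 0)) := by
  rintro ⟨p, hp⟩
  refine ⟨MvPolynomial.coeff 0 p, Subtype.ext ?_⟩
  rw [MvPolynomial.mem_homogeneousSubmodule] at hp
  have h2 := (MvPolynomial.totalDegree_zero_iff_isHomogeneous (p := p)).mpr hp
  exact (MvPolynomial.totalDegree_eq_zero_iff_eq_C.mp h2).symm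

/-- The homogeneous coordinates. -/
def coords (i : Fin (n + 1)) : CohB1.polyGrading n R 1 := ⟨MvPolynomial.X i, MvPolynomial.isHomogeneous_X R i⟩

/-- The homogeneous coordinates as sections of `O(1)`. -/
def coordSec (i : Fin (n + 1)) : Γ(Twist.twistProjSpace n R 1, ⊤) := ts (𝒜 := CohB1.polyGrading n R) (coords n R) i

theorem toSpec_eq : CohB1.ProjSpace.toSpec n R = Proj.toSpecZero (CohB1.polyGrading n R) ≫
    Spec.map ((Scheme.ΓSpecIso (CommRingCat.of R)).hom ≫
      CommRingCat.ofHom (algebraMap R (CohB1.polyGrading n R 0))) ≫ (isAffineOpen_top _).fromSpec := by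
  rw [IsAffineOpen.fromSpec_top, Scheme.isoSpec_Spec_inv, Spec.map_comp, Category.assoc, ← Spec.map_comp,
    Iso.inv_hom_id, Spec.map_id, Category.comp_id]
  rfl

/-- `O(1)` on `P^n_R` satisfies the section-level condition, with a free module. -/
theorem va_projSpace : VA (CohB1.ProjSpace.toSpec n R) (L := Twist.twistProjSpace n R 1)
    (freeHom (CohB1.ProjSpace.toSpec n R) (coordSec n R)) := by
  refine va_proj (𝒜 := CohB1.polyGrading n R) (coords n R) (adjoin_X n R) (CohB1.ProjSpace.toSpec n R)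
    (isAffineOpen_top _) _ ?_ (toSpec_eq n R)
  exact (algebraMap_zero_surjective n R).comp
    (ConcreteCategory.bijective_of_isIso (Scheme.ΓSpecIso (CommRingCat.of R)).hom).2

theorem isInvertible_twistProjSpace : PicF.IsInvertible (Twist.twistProjSpace n R 1) := by
  rw [isInvertible_iff]
  intro x
  obtain ⟨i, hi⟩ := exists_notMem (𝒜 := CohB1.polyGrading n R) (coords n R) (adjoin_X n R) x
  refine ⟨nv (Twist.twistProjSpace n R 1) (coordSec n R i), _, ?_, isGen_nv _ _⟩
  have h1 := nv_ts (𝒜 := CohB1.polyGrading n R) (coords n R) (adjoin_X n R) i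
  have h2 : x ∈ nv (GrTwist.twist (CohB1.polyGrading n R) 1) (ts (𝒜 := CohB1.polyGrading n R) (coords n R) i) := by
    rw [h1]; exact hi
  exact h2

end pn

section main

variable {X Y : Scheme.{u}} {q : X ⟶ Y} {L : X.Modules}

/-- The condition with the target replaced by a free module. -/
theorem _root_.K43.VADef.VA.of_iso {E E' : Y.Modules} {φ : E ⟶ (Scheme.Modules.pushforward q).obj L} (h : VA q φ)
    (i : E' ≅ E) : VA q (i.hom ≫ φ) := by
  refine h.iso_comp i.hom fun U _ e => ⟨i.inv.app U e, ?_⟩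
  exact congr(($(i.inv_hom_id)).app U e)

/-- An immersion into a base change, for a free module. -/
theorem exists_va_of_pullback {P₀ T : Scheme.{u}} (f₀ : P₀ ⟶ T) (b : Y ⟶ T) {M : P₀.Modules}
    (hM : PicF.IsInvertible M) {n : ℕ} (φ₀ : FlatMod.freeMod T n ⟶ (Scheme.Modules.pushforward f₀).obj M)
    (hφ₀ : VA f₀ φ₀) (i : X ⟶ pullback f₀ b) (hi : IsImmersion i) (hiq : i ≫ pullback.snd f₀ b = q)
    (e : L ≅ (Scheme.Modules.pullback i).obj ((Scheme.Modules.pullback (pullback.fst f₀ b)).obj M)) :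
    ∃ φ : FlatMod.freeMod Y n ⟶ (Scheme.Modules.pushforward q).obj L, VA q φ := by
  subst hiq
  have w : (i ≫ pullback.fst f₀ b) ≫ f₀ = (i ≫ pullback.snd f₀ b) ≫ b := by
    rw [Category.assoc, Category.assoc, pullback.condition]
  have hI : IsImmersion (pullback.lift (i ≫ pullback.fst f₀ b) (i ≫ pullback.snd f₀ b) w) := by
    have : pullback.lift (i ≫ pullback.fst f₀ b) (i ≫ pullback.snd f₀ b) w = i := by
      apply pullback.hom_ext
      · rw [pullback.lift_fst]
      · rw [pullback.lift_snd]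
    rw [this]; exact hi
  have h1 := Groth.Agent.EGA2.K32.VAPull.va_pull w φ₀
    (Groth.Agent.EGA2.K32.VAPull.immProd_of_lift w hI) hM
    (Groth.Agent.Ega2.QCohLocal.isQCoh_of_iso
      (Groth.Agent.PerfC.PullRestrict.pullbackFreeMod b n).symm
      (Groth.Agent.Ega2.QCohLocal.isQCoh_freeMod Y n)) hφ₀
  let e' : (Scheme.Modules.pullback (i ≫ pullback.fst f₀ b)).obj M ≅ L :=
    ((Scheme.Modules.pullbackComp i (pullback.fst f₀ b)).app _).symm ≪≫ e.symm
  exact ⟨_, (h1.of_iso (Groth.Agent.PerfC.PullRestrict.pullbackFreeMod b n).symm).comp_iso e'.hom⟩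

/-- Very ampleness relative to a projective space implies the section-level condition with a free module. -/
theorem exists_va_of_pn (h : RelAmple.IsRelVeryAmplePn q L) :
    ∃ (n : ℕ) (φ : FlatMod.freeMod Y (n + 1) ⟶ (Scheme.Modules.pushforward q).obj L), VA q φ := by
  obtain ⟨n, i, hi, hiq, ⟨e⟩⟩ := h
  exact ⟨n, exists_va_of_pullback (CohB1.ProjSpace.toSpec n (ULift.{u} ℤ)) (specULiftZIsTerminal.from Y)
    (isInvertible_twistProjSpace n (ULift.{u} ℤ)) _ (va_projSpace n (ULift.{u} ℤ)) i hi hiq e⟩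

theorem isInvertible_of_pn (h : RelAmple.IsRelVeryAmplePn q L) : PicF.IsInvertible L := by
  obtain ⟨n, i, hi, hiq, ⟨e⟩⟩ := h
  have h1 := isInvertible_pullback i (isInvertible_pullback
    (pullback.fst (CohB1.ProjSpace.toSpec n (ULift.{u} ℤ)) (specULiftZIsTerminal.from Y))
    (isInvertible_twistProjSpace n (ULift.{u} ℤ)))
  rw [isInvertible_iff] at h1 ⊢
  intro x
  obtain ⟨U, s, hx, hs⟩ := h1 x
  exact ⟨U, e.inv.app U s, hx, (isGen_app_iff e.inv s).2 hs⟩

end main

end K43.VAFree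

end
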