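import Groth.Agent.EGA2.K43.GrFrac
import Groth.Agent.EGA2.K35.RelProjBasic
import Groth.Agent.Ega2.Nv

/-!
# Sections of the twisting sheaves on a relative Proj

For `hP : IsRelProj 𝒮 p chart` and `hL : IsRelTwist 𝒮 p chart n L lam`:
* `isGen_lam_iff`: generators may be tested in the charts;
* `can hL U hU h a : Γ(L, p⁻¹ U)`, for `a ∈ 𝒮(U)_i`, `(i : ℤ) = n`, the section `a / 1`; `lam_res_can`, `can_add`, `can_smul`,
  `res_can` (compatible with restriction to all affine `V ≤ U`);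
* `Dp p chart U hU f`, the open `D_+(f)` of `P` for `f ∈ 𝒮(U)`; `isAffineOpen_Dp`; `isGen_can`;
  `nv_can` for `𝒮(U)` generated by degree one over degree zero and `n = 1`.
-/

set_option autoImplicit false
universe u

open CategoryTheory CategoryTheory.Limits AlgebraicGeometry TopologicalSpace Opposite

noncomputable section

namespace K43.RelTw

open Groth.Agent.Fdesc.LocGen Groth.Agent.Ega2.Nv K43.GrFrac RelProj

section general

variable {P Q : Scheme.{u}} (f : Q ⟶ P) {N : P.Modules} {M : Q.Modules}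
  (lam : N ⟶ (Scheme.Modules.pushforward f).obj M) {W : P.Opens}

/-- A section of `N` over `W` read in the chart. -/
def rd {W : P.Opens} (s : Γ(N, W)) : Γ(M, f ⁻¹ᵁ W) := lam.app W s

theorem rd_smul {W : P.Opens} (a : Γ(P, W)) (s : Γ(N, W)) :
    rd f lam (a • s) = (f.app W a : Γ(Q, f ⁻¹ᵁ W)) • rd f lam s := Scheme.Modules.Hom.app_smul lam a s

theorem rd_add {W : P.Opens} (s t : Γ(N, W)) : rd f lam (s + t) = rd f lam s + rd f lam t :=
  map_add (lam.app W).hom s t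

theorem rd_res {V W : P.Opens} (h : V ≤ W) (s : Γ(N, W)) :
    rd f lam (res N h s) = res M (f.preimage_mono h) (rd f lam s) := app_res lam h s

variable [IsOpenImmersion f]

omit lam in
theorem bijective_app (hW : W ≤ f.opensRange) : Function.Bijective (f.app W : Γ(P, W) → Γ(Q, f ⁻¹ᵁ W)) := by
  have := f.isIso_app W hW
  exact ConcreteCategory.bijective_of_isIso (f.app W)

omit lam in
theorem exists_preimage_eq {V : Q.Opens} (h : V ≤ f ⁻¹ᵁ W) : ∃ V' : P.Opens, V' ≤ W ∧ V' ≤ f.opensRange ∧ f ⁻¹ᵁ V' = V := by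
  refine ⟨f ''ᵁ V, ?_, ?_, f.preimage_image_eq V⟩
  · exact (f.image_mono h).trans (by rw [f.image_preimage_eq_opensRange_inf]; exact inf_le_right)
  · rw [← f.image_top_eq_opensRange]; exact f.image_mono le_top

/-- Generators may be tested in a chart. -/
theorem isGen_rd_iff (hW : W ≤ f.opensRange) (hbij : ∀ V ≤ W, Function.Bijective (lam.app V)) (s : Γ(N, W)) :
    IsGen (rd f lam s) ↔ IsGen s := by
  have key : ∀ V (hV : V ≤ W), Function.Bijective (fun a : Γ(Q, f ⁻¹ᵁ V) =>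
      a • res M (f.preimage_mono hV) (rd f lam s)) ↔ Function.Bijective (fun a : Γ(P, V) => a • res N hV s) := by
    intro V hV
    have h1 := bijective_app f (hV.trans hW)
    have h2 : Function.Bijective (fun t : Γ(N, V) => rd f lam t) := hbij V hV
    rw [← Function.Bijective.of_comp_iff _ h1, ← Function.Bijective.of_comp_iff' h2]
    refine iff_of_eq (congrArg Function.Bijective (funext fun a => ?_))
    change _ = rd f lam (a • res N hV s)
    rw [rd_smul, rd_res]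
    rfl
  constructor
  · intro h V hV
    exact (key V hV).1 (h _ (f.preimage_mono hV))
  · intro h V hV
    obtain ⟨V', hV', _, rfl⟩ := exists_preimage_eq f hV
    exact (key V' hV').2 (h V' hV')

theorem preimage_nv (hW : W ≤ f.opensRange) (hbij : ∀ V ≤ W, Function.Bijective (lam.app V)) (s : Γ(N, W)) :
    f ⁻¹ᵁ (nv N s) = nv M (rd f lam s) := by
  apply le_antisymm
  · have hle : nv N s ≤ W := nv_le N s
    rw [le_nv_iff M _ (f.preimage_mono hle), ← rd_res f lam hle]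
    exact (isGen_rd_iff f lam (hle.trans hW) (fun V hV => hbij V (hV.trans hle)) _).2
      (isGen_nv N s)
  · obtain ⟨V', hV', _, hV⟩ := exists_preimage_eq f (nv_le M (rd f lam s))
    rw [← hV]
    apply f.preimage_mono
    rw [le_nv_iff N s hV', ← isGen_rd_iff f lam (hV'.trans hW) (fun V h => hbij V (h.trans hV')), rd_res,
      ← le_nv_iff, hV]

theorem nv_eq_image (hW : W ≤ f.opensRange) (hbij : ∀ V ≤ W, Function.Bijective (lam.app V)) (s : Γ(N, W)) :
    nv N s = f ''ᵁ (nv M (rd f lam s)) := by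
  rw [← preimage_nv f lam hW hbij, f.image_preimage_eq_opensRange_inf]
  exact (inf_eq_right.mpr ((nv_le N s).trans hW)).symm

end general

/-- Functions of an affine open, pulled back along a morphism which factors through a spectrum. -/
theorem appLE_eq_of_toSpecΓ {S Q : Scheme.{u}} (g : Q ⟶ S) {U : S.Opens} (hU : IsAffineOpen U) {D : Q.Opens}
    (e : D ≤ g ⁻¹ᵁ U) (ψ : Γ(S, U) ⟶ Γ(Q, D)) (h : D.ι ≫ g = D.toSpecΓ ≫ Spec.map ψ ≫ hU.fromSpec) :
    g.appLE U D e = ψ := by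
  have h1 : D.toSpecΓ ≫ Spec.map (g.appLE U D e) ≫ hU.fromSpec = D.toSpecΓ ≫ Spec.map ψ ≫ hU.fromSpec := by
    rw [Scheme.Opens.toSpecΓ_SpecMap_appLE_assoc, ← h, IsAffineOpen.toSpecΓ_fromSpec, Scheme.Hom.resLE_comp_ι]
  rw [← Category.assoc, ← Category.assoc, cancel_mono] at h1
  have h2 := congrArg (fun k => (Scheme.ΓSpecIso _).inv ≫ Scheme.Hom.appTop k ≫ D.topIso.hom) h1
  simpa only [Scheme.Hom.comp_appTop, Scheme.Opens.toSpecΓ_appTop, Category.assoc, Iso.inv_hom_id, Category.comp_id,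
    ← Scheme.ΓSpecIso_inv_naturality_assoc, Iso.inv_hom_id_assoc] using h2

section base

variable {A σ : Type u} [CommRing A] [SetLike σ A] [AddSubgroupClass σ A] {𝒜 : ℕ → σ} [GradedRing 𝒜]

open HomogeneousLocalization in
theorem awayToSection_fromZero_val (f : A) (a : 𝒜 0) (y : Proj.basicOpen 𝒜 f) :
    ((show GrTwist.O (𝒜 := 𝒜) (op (Proj.basicOpen 𝒜 f)) from
      (Proj.awayToSection 𝒜 f).hom (fromZeroRingHom 𝒜 _ a)).1 y).val =
      algebraMap A (GrTwist.Loc 𝒜 y.1) (a : A) := by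
  refine (ProjectiveSpectrum.Proj.awayToSection_apply (𝒜 := 𝒜) f _ y).trans ?_
  have : (fromZeroRingHom 𝒜 (Submonoid.powers f) a).val =
      algebraMap A (Localization (Submonoid.powers f)) (a : A) := rfl
  rw [this]
  exact IsLocalization.map_eq _ _

theorem nv_globSec_le {n : ℤ} {i : ℕ} (h : (i : ℤ) = n) (a : 𝒜 i) (U : (Proj 𝒜).Opens)
    (hcov : ∀ y : ProjectiveSpectrum 𝒜, ∃ b : 𝒜 i, b.1 ∉ y.asHomogeneousIdeal) :
    nv (GrTwist.twist 𝒜 n) (globSec h a U) ≤ Proj.basicOpen 𝒜 a.1 := by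
  intro y hy
  obtain ⟨b, hb⟩ := hcov y
  have h1 : IsGen (globSec h a (nv (GrTwist.twist 𝒜 n) (globSec h a U))) := by
    have h2 := isGen_nv (GrTwist.twist 𝒜 n) (globSec h a U)
    rwa [res_globSec] at h2
  exact notMem_of_isGen h a b h1 ⟨y, hy⟩ hb

theorem exists_homogeneous_notMem (y : ProjectiveSpectrum 𝒜) :
    ∃ (i : ℕ) (_ : 0 < i) (f : 𝒜 i), f.1 ∉ y.asHomogeneousIdeal := by
  by_contra hcon
  push Not at hcon
  apply y.not_irrelevant_le
  rw [HomogeneousIdeal.irrelevant_le]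
  intro i hi x hx
  exact hcon i hi ⟨x, hx⟩

variable {S : Scheme.{u}} (g : Proj 𝒜 ⟶ S) {U : S.Opens} (hU : IsAffineOpen U) (c : Γ(S, U) ⟶ CommRingCat.of (𝒜 0))
  (hg : g = Proj.toSpecZero 𝒜 ≫ Spec.map c ≫ hU.fromSpec)

include hg in
theorem appLE_basicOpen {i : ℕ} (hi : 0 < i) (f : 𝒜 i) (e : Proj.basicOpen 𝒜 f.1 ≤ g ⁻¹ᵁ U) :
    g.appLE U (Proj.basicOpen 𝒜 f.1) e =
      c ≫ CommRingCat.ofHom (HomogeneousLocalization.fromZeroRingHom 𝒜 _) ≫ Proj.awayToSection 𝒜 f.1 := by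
  apply appLE_eq_of_toSpecΓ g hU e
  have h1 : (Proj.basicOpen 𝒜 f.1).ι ≫ Proj.toSpecZero 𝒜 =
      (Proj.basicOpen 𝒜 f.1).toSpecΓ ≫ Spec.map (Proj.awayToSection 𝒜 f.1) ≫
        Spec.map (CommRingCat.ofHom (HomogeneousLocalization.fromZeroRingHom 𝒜 _)) := by
    rw [← Proj.awayι_toSpecZero 𝒜 f.1 f.2 hi, ← Category.assoc, ← Category.assoc]
    congr 1
    change _ = Proj.basicOpenToSpec 𝒜 f.1 ≫ _
    rw [← Proj.basicOpenIsoSpec_hom 𝒜 f.1 f.2 hi, Proj.awayι, Iso.hom_inv_id_assoc]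
  rw [hg, reassoc_of% h1, ← Spec.map_comp_assoc, ← Spec.map_comp_assoc]

include hg in
/-- The values of the functions of the base. -/
theorem appLE_val (r : Γ(S, U)) {W : (Proj 𝒜).Opens} (e : W ≤ g ⁻¹ᵁ U) (y : W) :
    ((show GrTwist.O (𝒜 := 𝒜) (op W) from g.appLE U W e r).1 y).val =
      algebraMap A (GrTwist.Loc 𝒜 y.1) (c r : A) := by
  obtain ⟨i, hi, f, hf⟩ := exists_homogeneous_notMem y.1
  have h1 := awayToSection_fromZero_val f.1 (c r) ⟨y.1, hf⟩
  rw [← h1]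
  have hle : Proj.basicOpen 𝒜 f.1 ≤ g ⁻¹ᵁ U := by
    intro z _
    change g z ∈ U
    rw [hg]
    change hU.fromSpec _ ∈ U
    have := Set.mem_range_self (f := hU.fromSpec) ((Spec.map c) (Proj.toSpecZero 𝒜 z))
    rw [hU.range_fromSpec] at this
    exact this
  have h2 := appLE_basicOpen g hU c hg hi f hle
  have h3 : (Proj.awayToSection 𝒜 f.1).hom (HomogeneousLocalization.fromZeroRingHom 𝒜 _ (c r)) =
      g.appLE U (Proj.basicOpen 𝒜 f.1) hle r := by
    rw [h2]; rfl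
  rw [h3]
  rfl

include hg in
theorem le_preimage (W : (Proj 𝒜).Opens) : W ≤ g ⁻¹ᵁ U := by
  intro z _
  change g z ∈ U
  rw [hg]
  change hU.fromSpec _ ∈ U
  have := Set.mem_range_self (f := hU.fromSpec) ((Spec.map c) (Proj.toSpecZero 𝒜 z))
  rw [hU.range_fromSpec] at this
  exact this

end base

section can

variable {S P : Scheme.{u}} {𝒮 : QCGrAlg S} {p : P ⟶ S}
  {chart : ∀ (U : S.Opens) (hU : IsAffineOpen U), (((p ⁻¹ᵁ U : P.Opens) : Scheme.{u}) ≅ Proj (𝒮.deg U hU))}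
  {n : ℤ} {L : P.Modules}
  {lam : ∀ (U : S.Opens) (hU : IsAffineOpen U),
    L ⟶ (Scheme.Modules.pushforward (emb p chart U hU)).obj (GrTwist.twist (𝒮.deg U hU) n)}

variable (chart) in
theorem le_opensRange {U : S.Opens} (hU : IsAffineOpen U) {W : P.Opens} (hW : W ≤ p ⁻¹ᵁ U) :
    W ≤ (emb p chart U hU).opensRange := by
  rw [K35.RelProjBasic.opensRange_emb]; exact hW

variable (lam) in
/-- A section of `L` read in the chart over `U`. -/
abbrev rdU {U : S.Opens} (hU : IsAffineOpen U) {W : P.Opens} (s : Γ(L, W)) :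
    Γ(GrTwist.twist (𝒮.deg U hU) n, emb p chart U hU ⁻¹ᵁ W) := rd (emb p chart U hU) (lam U hU) s

theorem rdU_injective (hL : IsRelTwist 𝒮 p chart n L lam) {U : S.Opens} (hU : IsAffineOpen U) {W : P.Opens}
    (hW : W ≤ p ⁻¹ᵁ U) : Function.Injective (fun s : Γ(L, W) => rdU lam hU s) := (hL.bijective U hU W hW).1

/-- The section `a / 1` of `L = O(n)` over `p⁻¹ U`, for `a ∈ 𝒮(U)` of degree `n`. -/
def can (hL : IsRelTwist 𝒮 p chart n L lam) {U : S.Opens} (hU : IsAffineOpen U) {i : ℕ} (h : (i : ℤ) = n)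
    (a : 𝒮.deg U hU i) : Γ(L, p ⁻¹ᵁ U) :=
  (Equiv.ofBijective _ (hL.bijective U hU (p ⁻¹ᵁ U) le_rfl)).symm (globSec h a (emb p chart U hU ⁻¹ᵁ (p ⁻¹ᵁ U)))

variable (hL : IsRelTwist 𝒮 p chart n L lam) {U : S.Opens} (hU : IsAffineOpen U) {i : ℕ} (h : (i : ℤ) = n)

theorem rdU_can (a : 𝒮.deg U hU i) : rdU lam hU (can hL hU h a) = globSec h a _ :=
  (Equiv.ofBijective _ (hL.bijective U hU (p ⁻¹ᵁ U) le_rfl)).apply_symm_apply _

theorem rdU_res_can (a : 𝒮.deg U hU i) {W : P.Opens} (hW : W ≤ p ⁻¹ᵁ U) :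
    rdU lam hU (res L hW (can hL hU h a)) = globSec h a _ := by
  rw [rdU, rd_res, ← rdU, rdU_can]
  rfl

theorem can_add (a b : 𝒮.deg U hU i) : can hL hU h (a + b) = can hL hU h a + can hL hU h b := by
  apply rdU_injective hL hU le_rfl
  dsimp only
  rw [rdU_can, rdU, rd_add, ← rdU, ← rdU, rdU_can, rdU_can, globSec_add]

/-- The product of a function of `U` and of an element of `𝒮(U)_i`. -/
def smulDeg (r : Γ(S, U)) (a : 𝒮.deg U hU i) : 𝒮.deg U hU i :=
  ⟨(𝒮.str.app (op U)).hom r * a.1, by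
    have := SetLike.mul_mem_graded (A := 𝒮.deg U hU) (𝒮.str_mem U hU r) a.2
    rwa [zero_add] at this⟩

@[simp] theorem smulDeg_coe (r : Γ(S, U)) (a : 𝒮.deg U hU i) :
    (smulDeg hU r a : 𝒮.presheaf.obj (op U)) = (𝒮.str.app (op U)).hom r * a.1 := rfl

omit hL in
theorem rdU_smul {W : P.Opens} (r : Γ(P, W)) (s : Γ(L, W)) :
    rdU lam hU (r • s) = ((emb p chart U hU).app W r : Γ(Proj (𝒮.deg U hU), emb p chart U hU ⁻¹ᵁ W)) • rdU lam hU s :=
  rd_smul _ _ r s

theorem emb_p' (hP : IsRelProj 𝒮 p chart) : emb p chart U hU ≫ p =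
    Proj.toSpecZero (𝒮.deg U hU) ≫ Spec.map (𝒮.strZero U hU) ≫ hU.fromSpec := K35.RelProjBasic.emb_p hP U hU

/-- Values of the functions of the base in a chart. -/
theorem val_fun (hP : IsRelProj 𝒮 p chart) {W : P.Opens} (hW : W ≤ p ⁻¹ᵁ U) (r : Γ(S, U))
    (y : (emb p chart U hU ⁻¹ᵁ W : (Proj (𝒮.deg U hU)).Opens)) :
    ((show GrTwist.O (𝒜 := 𝒮.deg U hU) (op (emb p chart U hU ⁻¹ᵁ W)) from
      (emb p chart U hU).app W (ores hW (p.app U r))).1 y).val =
      algebraMap _ (GrTwist.Loc (𝒮.deg U hU) y.1) ((𝒮.str.app (op U)).hom r) := by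
  have h1 := appLE_val (emb p chart U hU ≫ p) hU (𝒮.strZero U hU) (emb_p' hU hP) r
    (W := emb p chart U hU ⁻¹ᵁ W) ((emb p chart U hU).preimage_mono hW) y
  rw [QCGrAlg.strZero_apply_coe] at h1
  rw [← h1]
  congr 3
  have h2 : (emb p chart U hU ≫ p).appLE U (emb p chart U hU ⁻¹ᵁ W) ((emb p chart U hU).preimage_mono hW) =
      p.app U ≫ P.presheaf.map (homOfLE hW).op ≫ (emb p chart U hU).app W := by
    rw [(emb p chart U hU).naturality, Scheme.Hom.appLE, Scheme.Hom.comp_app]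
    exact Category.assoc _ _ _
  rw [h2]
  rfl

theorem can_smul (hP : IsRelProj 𝒮 p chart) (r : Γ(S, U)) (a : 𝒮.deg U hU i) :
    can hL hU h (smulDeg hU r a) = (p.app U r : Γ(P, p ⁻¹ᵁ U)) • can hL hU h a := by
  apply rdU_injective hL hU le_rfl
  dsimp only
  rw [rdU_can, rdU_smul hU, rdU_can]
  refine sec_ext fun y => ?_
  rw [val_smul, val_globSec, val_globSec]
  have h1 := val_fun hU hP le_rfl r y
  rw [ores_refl] at h1
  rw [h1, smulDeg_coe, map_mul]

/-- Restriction of elements of degree `i`. -/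
def resDeg {V : S.Opens} (hV : IsAffineOpen V) (hVU : V ≤ U) (a : 𝒮.deg U hU i) : 𝒮.deg V hV i :=
  ⟨(𝒮.presheaf.map (homOfLE hVU).op).hom a.1, 𝒮.map_mem hU hV hVU a.2⟩

@[simp] theorem resDeg_coe {V : S.Opens} (hV : IsAffineOpen V) (hVU : V ≤ U) (a : 𝒮.deg U hU i) :
    (resDeg hU hV hVU a : 𝒮.presheaf.obj (op V)) = (𝒮.presheaf.map (homOfLE hVU).op).hom a.1 := rfl

theorem resDeg_resDeg {V W : S.Opens} (hV : IsAffineOpen V) (hW : IsAffineOpen W) (hVU : V ≤ U) (hWV : W ≤ V)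
    (a : 𝒮.deg U hU i) : resDeg hV hW hWV (resDeg hU hV hVU a) = resDeg hU hW (hWV.trans hVU) a := by
  apply Subtype.ext
  change (𝒮.presheaf.map _).hom ((𝒮.presheaf.map _).hom a.1) = (𝒮.presheaf.map _).hom a.1
  rw [← CommRingCat.comp_apply, ← Functor.map_comp]
  rfl

theorem res_can_basicOpen (hP : IsRelProj 𝒮 p chart) (r : Γ(S, U)) (a : 𝒮.deg U hU i) :
    res L (p.preimage_mono (S.basicOpen_le r)) (can hL hU h a) =
      can hL (hU.basicOpen r) h (resDeg hU (hU.basicOpen r) (S.basicOpen_le r) a) := by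
  apply rdU_injective hL (hU.basicOpen r) le_rfl
  dsimp only
  rw [rdU_can]
  refine sec_ext fun y => ?_
  have hy' : (emb p chart U hU).base (ProjectiveSpectrum.comap
      (𝒮.res hU (hU.basicOpen r) (S.basicOpen_le r)) (𝒮.irrelevant_le_map U hU r) y.1) ∈ p ⁻¹ᵁ (S.basicOpen r) := by
    have h1 := map_res_emb hP U hU r
    have h2 : (emb p chart U hU).base (ProjectiveSpectrum.comap
      (𝒮.res hU (hU.basicOpen r) (S.basicOpen_le r)) (𝒮.irrelevant_le_map U hU r) y.1) =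
      emb p chart (S.basicOpen r) (hU.basicOpen r) y.1 :=
      congrArg (fun k : Proj (𝒮.deg (S.basicOpen r) (hU.basicOpen r)) ⟶ P => k y.1) h1
    rw [h2]
    exact y.2
  have h3 := hL.compat U hU r (p ⁻¹ᵁ (S.basicOpen r))
    (res L (p.preimage_mono (S.basicOpen_le r)) (can hL hU h a)) y.1 y.2 hy'
  refine h3.trans ?_
  have h4 := rdU_res_can hL hU h a (p.preimage_mono (S.basicOpen_le r))
  have h5 : GrTwist.val (V := emb p chart U hU ⁻¹ᵁ (p ⁻¹ᵁ (S.basicOpen r)))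
      ((lam U hU).app (p ⁻¹ᵁ (S.basicOpen r)) (res L (p.preimage_mono (S.basicOpen_le r)) (can hL hU h a)))
        ⟨_, hy'⟩ = algebraMap _ _ a.1 :=
    (congrArg (fun t => GrTwist.val t ⟨_, hy'⟩) h4).trans (val_globSec h a _ _)
  rw [h5, val_globSec, resDeg_coe]
  exact Localization.localRingHom_to_map _ _ _ _ _

theorem res_can (hP : IsRelProj 𝒮 p chart) {V : S.Opens} (hV : IsAffineOpen V) (hVU : V ≤ U) (a : 𝒮.deg U hU i) :
    res L (p.preimage_mono hVU) (can hL hU h a) = can hL hV h (resDeg hU hV hVU a) := by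
  have key : ∀ x : V, ∃ (D : S.Opens) (hD : IsAffineOpen D), x.1 ∈ D ∧ ∃ (hDU : D ≤ U) (hDV : D ≤ V),
      (∀ b : 𝒮.deg U hU i, res L (p.preimage_mono hDU) (can hL hU h b) = can hL hD h (resDeg hU hD hDU b)) ∧
      (∀ b : 𝒮.deg V hV i, res L (p.preimage_mono hDV) (can hL hV h b) = can hL hD h (resDeg hV hD hDV b)) := by
    intro x
    obtain ⟨f, g, hfg, hx⟩ := exists_basicOpen_le_affine_inter hU hV x.1 ⟨hVU x.2, x.2⟩
    refine ⟨S.basicOpen f, hU.basicOpen f, hx, S.basicOpen_le f, hfg.le.trans (S.basicOpen_le g),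
      fun b => res_can_basicOpen hL hU h hP f b, ?_⟩
    intro b
    have aux : ∀ (D : S.Opens) (hD : IsAffineOpen D) (e : S.basicOpen g = D) (hDV : D ≤ V),
        res L (p.preimage_mono hDV) (can hL hV h b) = can hL hD h (resDeg hV hD hDV b) := by
      intro D hD e hDV
      subst e
      exact res_can_basicOpen hL hV h hP g b
    exact aux _ _ hfg.symm _
  choose D hD hxD hDU hDV h1 h2 using key
  refine res_ext L (fun x => p ⁻¹ᵁ (D x)) (fun x => p.preimage_mono (hDV x)) ?_ ?_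
  · intro y hy
    exact Opens.mem_iSup.mpr ⟨⟨p y, hy⟩, hxD ⟨p y, hy⟩⟩
  · intro x
    rw [res_res, h1, h2, resDeg_resDeg]

/-! ### The opens `D_+(f)` -/

variable (chart) in
/-- The open `D_+(f)` of `P`, for `f ∈ 𝒮(U)`. -/
def Dp {U : S.Opens} (hU : IsAffineOpen U) (f : 𝒮.presheaf.obj (op U)) : P.Opens :=
  emb p chart U hU ''ᵁ Proj.basicOpen (𝒮.deg U hU) f

omit hL in
theorem Dp_le (f : 𝒮.presheaf.obj (op U)) : Dp chart hU f ≤ p ⁻¹ᵁ U := by
  rw [← K35.RelProjBasic.opensRange_emb (chart := chart) U hU, ← Scheme.Hom.image_top_eq_opensRange]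
  exact (emb p chart U hU).image_mono le_top

omit hL in
theorem emb_preimage_Dp (f : 𝒮.presheaf.obj (op U)) :
    emb p chart U hU ⁻¹ᵁ Dp chart hU f = Proj.basicOpen (𝒮.deg U hU) f := (emb p chart U hU).preimage_image_eq _

omit hL in
theorem emb_mem_Dp (f : 𝒮.presheaf.obj (op U)) (y : Proj (𝒮.deg U hU)) :
    emb p chart U hU y ∈ Dp chart hU f ↔ f ∉ (show ProjectiveSpectrum (𝒮.deg U hU) from y).asHomogeneousIdeal := by
  change y ∈ emb p chart U hU ⁻¹ᵁ Dp chart hU f ↔ _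
  rw [emb_preimage_Dp]
  rfl

omit hL in
theorem isAffineOpen_Dp {m : ℕ} (hm : 0 < m) (f : 𝒮.deg U hU m) : IsAffineOpen (Dp chart hU f.1) :=
  (Proj.isAffineOpen_basicOpen (𝒮.deg U hU) f.1 f.2 hm).image_of_isOpenImmersion _

theorem isGen_can (a : 𝒮.deg U hU i) {W : P.Opens} (hW : W ≤ Dp chart hU a.1) :
    IsGen (res L (hW.trans (Dp_le hU a.1)) (can hL hU h a)) := by
  rw [← isGen_rd_iff (emb p chart U hU) (lam U hU) (le_opensRange chart hU (hW.trans (Dp_le hU a.1)))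
    (fun V hV => hL.bijective U hU V (hV.trans (hW.trans (Dp_le hU a.1))))]
  rw [← rdU, rdU_res_can]
  refine isGen_globSec h a _ fun y hy => ?_
  have h1 := (emb p chart U hU).preimage_mono hW hy
  rw [emb_preimage_Dp] at h1
  exact h1

theorem Dp_le_nv (a : 𝒮.deg U hU i) : Dp chart hU a.1 ≤ nv L (can hL hU h a) := by
  rw [le_nv_iff L _ (Dp_le hU a.1)]
  exact isGen_can hL hU h a le_rfl

/-- The nonvanishing locus of `can a` is `D_+(a)` when the `D_+(b)`, `deg b = deg a`, cover `Proj 𝒮(U)`. -/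
theorem nv_can (hcov : ∀ y : ProjectiveSpectrum (𝒮.deg U hU), ∃ b : 𝒮.deg U hU i, b.1 ∉ y.asHomogeneousIdeal)
    (a : 𝒮.deg U hU i) : nv L (can hL hU h a) = Dp chart hU a.1 := by
  apply le_antisymm _ (Dp_le_nv hL hU h a)
  rw [nv_eq_image (emb p chart U hU) (lam U hU) (le_opensRange chart hU le_rfl)
    (fun V hV => hL.bijective U hU V hV)]
  apply Scheme.Hom.image_mono
  rw [← rdU, rdU_can]
  exact nv_globSec_le h a _ hcov

/-- Ratios of sections, read in the chart. -/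
theorem rdU_ratio {f : 𝒮.deg U hU i} {W : P.Opens} (hW : W ≤ p ⁻¹ᵁ U) (t : 𝒮.deg U hU i) (c : Γ(P, W)) :
    res L hW (can hL hU h t) = c • res L hW (can hL hU h f) ↔
      globSec h t (emb p chart U hU ⁻¹ᵁ W) =
        ((emb p chart U hU).app W c : Γ(Proj (𝒮.deg U hU), emb p chart U hU ⁻¹ᵁ W)) • globSec h f _ := by
  rw [← (rdU_injective hL hU hW).eq_iff]
  dsimp only
  rw [rdU_smul, rdU_res_can, rdU_res_can]

end can

end K43.RelTw

end
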