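import Groth.Agent.EGA2.K43.VAImm
import Groth.Agent.EGA2.K43.Piece
import Groth.Agent.EGA2.K36.SymAlg

/-!
# Relatively very ample modules satisfy the section-level condition

* `closure_sym`, `pack_sym`: the graded symmetric algebra of a quasi-coherent module has `Pack`;
* `exists_va_of_pack`: an immersion `i` into `Proj 𝒮` with `L ≅ i^* O(1)` gives `VA`;
* `exists_va`: `IsRelVeryAmple q L → ∃ E quasi-coherent, φ, VA q φ`; `isInvertible_of_isRelVeryAmple`.
-/

set_option autoImplicit false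
universe u
open CategoryTheory CategoryTheory.Limits AlgebraicGeometry TopologicalSpace Opposite

namespace K43.VAForward

open Groth.Agent.Fdesc.LocGen Groth.Agent.Ega2.Nv K43.CanMap K43.Piece K43.VADef K43.VAImm RelProj

theorem locGen_of_isInvertible {X : Scheme.{u}} {L : X.Modules} (hL : PicF.IsInvertible L) (U : X.Opens) :
    LocGen L U := by
  intro x hx
  obtain ⟨V, e, hxV, he⟩ := (isInvertible_iff L).mp hL x
  exact ⟨U ⊓ V, res L inf_le_right e, ⟨hx, hxV⟩, inf_le_left, he.res _⟩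

theorem sym_closure {R M : Type u} [CommRing R] [AddCommGroup M] [Module R M] :
    Subring.closure (Set.range (algebraMap R (SymmetricAlgebra R M)) ∪ Set.range (SymmetricAlgebra.ι R M)) = ⊤ := by
  rw [eq_top_iff]
  intro x _
  induction x using SymmetricAlgebra.induction with
  | algebraMap r => exact Subring.subset_closure (Or.inl ⟨r, rfl⟩)
  | ι x => exact Subring.subset_closure (Or.inr ⟨x, rfl⟩)
  | mul a b ha hb => exact mul_mem (ha trivial) (hb trivial)
  | add a b ha hb => exact add_mem (ha trivial) (hb trivial)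

variable {S : Scheme.{u}} {E : S.Modules}

theorem closure_sym {A : RelSpec.QCAlg S} {j : E ⟶ A.toModule} (hE : Coh.IsQCoh E) (hA : RelSpec.IsSymAlg E A j)
    {U : S.Opens} (hU : IsAffineOpen U) :
    Subring.closure (Set.range (A.str.app (op U)).hom ∪ Set.range (K36.SymAlg.jApp E A j U)) = ⊤ := by
  have h1 := (K36.SymAlg.bijective_symHom hE hA U hU).2
  have h2 := congrArg (Subring.map (K36.SymAlg.symHom E A j U)) (sym_closure (R := Γ(S, U)) (M := Γ(E, U)))
  rw [RingHom.map_closure, ← RingHom.range_eq_map, RingHom.range_eq_top.mpr h1, Set.image_union] at h2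
  rw [← h2]
  congr 2
  · ext x
    simp only [Set.mem_range, Set.mem_image, exists_exists_eq_and, K36.SymAlg.symHom_algebraMap]
  · ext x
    simp only [Set.mem_range, Set.mem_image, exists_exists_eq_and, K36.SymAlg.symHom_ι]

theorem pack_sym {𝒮 : QCGrAlg S} {j : E ⟶ 𝒮.toModule} (hE : Coh.IsQCoh E) (hj : IsGrSymAlg E 𝒮 j) : Pack j :=
  pack_of_gen (fun U hU x => hj.2 U hU x) fun _ hU => closure_sym hE hj.1 hU

/-- An immersion into `Proj 𝒮`, for `𝒮` with the package, and `N ≅ i^* O(1)`, give the condition `VA`. -/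
theorem exists_va_of_pack {X Y P : Scheme.{u}} {q : X ⟶ Y} {E : Y.Modules} {𝒮 : QCGrAlg Y} {j : E ⟶ 𝒮.toModule}
    (hpk : Pack j) {p : P ⟶ Y}
    {chart : ∀ (U : Y.Opens) (hU : IsAffineOpen U), (((p ⁻¹ᵁ U : P.Opens) : Scheme.{u}) ≅ Proj (𝒮.deg U hU))}
    (hP : IsRelProj 𝒮 p chart) {O1 : P.Modules}
    {lam : ∀ (U : Y.Opens) (hU : IsAffineOpen U),
      O1 ⟶ (Scheme.Modules.pushforward (emb p chart U hU)).obj (GrTwist.twist (𝒮.deg U hU) 1)}
    (hO1 : IsRelTwist 𝒮 p chart 1 O1 lam) (i : X ⟶ P) [IsImmersion i] (hi : i ≫ p = q) {L : X.Modules}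
    (e : L ≅ (Scheme.Modules.pullback i).obj O1) :
    ∃ φ : E ⟶ (Scheme.Modules.pushforward q).obj L, VA q φ := by
  refine ⟨pullHom i p q hi (canMap hP hO1 hpk.mem) e.inv, va_pullHom i p q hi _ e.inv ?_ (va_canMap hP hO1 hpk)⟩
  exact fun U => locGen_of_isInvertible (isInvertible hP hO1 hpk) U

/-- A relatively very ample module satisfies the section-level condition. -/
theorem exists_va {X Y : Scheme.{u}} {q : X ⟶ Y} {L : X.Modules} (h : IsRelVeryAmple q L) :
    ∃ (E : Y.Modules) (_ : Coh.IsQCoh E) (φ : E ⟶ (Scheme.Modules.pushforward q).obj L), VA q φ := by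
  obtain ⟨E, hE, 𝒮, j, hj, P, p, chart, hP, O1, lam, hO1, i, hi, hip, ⟨e⟩⟩ := h
  exact ⟨E, hE, exists_va_of_pack (pack_sym hE hj) hP hO1 i hip e⟩

theorem isInvertible_of_isRelVeryAmple {X Y : Scheme.{u}} {q : X ⟶ Y} {L : X.Modules} (h : IsRelVeryAmple q L) :
    PicF.IsInvertible L := by
  obtain ⟨E, hE, 𝒮, j, hj, P, p, chart, hP, O1, lam, hO1, i, hi, hip, ⟨e⟩⟩ := h
  have h1 := isInvertible_pullback i (isInvertible hP hO1 (pack_sym hE hj))
  rw [isInvertible_iff] at h1 ⊢
  intro x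
  obtain ⟨U, s, hx, hs⟩ := h1 x
  exact ⟨U, e.inv.app U s, hx, (isGen_app_iff e.inv s).2 hs⟩

end K43.VAForward
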