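import Groth.Prelude.Def_GrTwist
import Groth.Agent.Fdesc.LocGen

/-!
# Sections of the twisting sheaves `GrTwist.twist 𝒜 n` given by fractions

Port of `Groth.Agent.Ega2.TwistBasic` to gradings by an arbitrary family of additive subgroups: `fracSec` is the section
`a / s` of `O(n)`, `isGen_fracSec`: it generates `O(n)` where neither `a` nor `s` vanishes; `globSec a`: the section
`a / 1` of `O(i)` over any open; `notMem_of_isGen`, `deh` (dehomogenization), `subring_eq_top`.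
-/

set_option autoImplicit false
universe u

open CategoryTheory AlgebraicGeometry Limits TopologicalSpace Opposite TopCat

namespace K43.GrFrac

open GrTwist Groth.Agent.Fdesc.LocGen

variable {A σ : Type u} [CommRing A] [SetLike σ A] [AddSubgroupClass σ A] {𝒜 : ℕ → σ} [GradedRing 𝒜]

/-- The fraction `a / s` in the degree `n` part of the localization at `x`. -/
noncomputable def fracAt (n : ℤ) {i j : ℕ} (a : 𝒜 i) (s : 𝒜 j) (h : (i : ℤ) = j + n) (x : ProjectiveSpectrum 𝒜)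
    (hx : s.1 ∉ x.asHomogeneousIdeal) : twistAt 𝒜 n x :=
  ⟨Localization.mk a.1 ⟨s.1, hx⟩, Submodule.subset_span ⟨i, j, a, s, hx, h, rfl⟩⟩

/-- The section `a / s` of `O(n)`, `deg a = deg s + n`, over an open where `s` does not vanish. -/
noncomputable def fracSec (n : ℤ) {i j : ℕ} (a : 𝒜 i) (s : 𝒜 j) (h : (i : ℤ) = j + n)
    (U : Opens (ProjectiveSpectrum.top 𝒜)) (hU : ∀ x ∈ U, s.1 ∉ x.asHomogeneousIdeal) :
    sectN (𝒜 := 𝒜) n (op U) :=
  ⟨fun x => fracAt n a s h x.1 (hU x.1 x.2),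
    fun x => ⟨U, x.2, 𝟙 U, i, j, a, s, fun y => hU y.1 y.2, Or.inl h, fun _ => rfl⟩⟩

@[simp] lemma fracSec_val (n : ℤ) {i j : ℕ} (a : 𝒜 i) (s : 𝒜 j) (h : (i : ℤ) = j + n)
    (U : Opens (ProjectiveSpectrum.top 𝒜)) (hU : ∀ x ∈ U, s.1 ∉ x.asHomogeneousIdeal) (x : U) :
    ((fracSec n a s h U hU).1 x).1 = Localization.mk a.1 ⟨s.1, hU x.1 x.2⟩ := rfl

@[simp] lemma resN_fracSec (n : ℤ) {i j : ℕ} (a : 𝒜 i) (s : 𝒜 j) (h : (i : ℤ) = j + n)
    {U V : Opens (ProjectiveSpectrum.top 𝒜)} (hU : ∀ x ∈ U, s.1 ∉ x.asHomogeneousIdeal) (k : V ⟶ U) :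
    resN n k.op (fracSec n a s h U hU) = fracSec n a s h V (fun x hx => hU x (k.le hx)) := rfl

lemma exists_smul_of_mem_twistAt (n : ℤ) {i j : ℕ} (a : 𝒜 i) (s : 𝒜 j) (h : (i : ℤ) = j + n)
    (x : ProjectiveSpectrum 𝒜) (ha : a.1 ∉ x.asHomogeneousIdeal) (hs : s.1 ∉ x.asHomogeneousIdeal)
    (q : Loc 𝒜 x) (hq : q ∈ twistAt 𝒜 n x) :
    ∃ c : A0 𝒜 x, c.val * Localization.mk a.1 ⟨s.1, hs⟩ = q := by
  induction hq using Submodule.span_induction with
  | mem q hq =>
    obtain ⟨i', j', b, r, hr, hbr, rfl⟩ := hq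
    have hmem : r.1 * a.1 ∉ x.asHomogeneousIdeal := fun h' =>
      (x.isPrime.mem_or_mem h').elim hr ha
    refine ⟨HomogeneousLocalization.mk ⟨i' + j, ⟨b.1 * s.1, SetLike.mul_mem_graded b.2 s.2⟩,
      ⟨r.1 * a.1, ?_⟩, hmem⟩, ?_⟩
    · have : i' + j = j' + i := by omega
      rw [this]
      exact SetLike.mul_mem_graded r.2 a.2
    · rw [HomogeneousLocalization.val_mk, Localization.mk_mul]
      rw [Localization.mk_eq_mk_iff, Localization.r_iff_exists]
      refine ⟨1, ?_⟩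
      simp only [OneMemClass.coe_one, one_mul, Submonoid.coe_mul]
      ring
  | zero => exact ⟨0, by simp⟩
  | add p q _ _ hp hq =>
    obtain ⟨c, rfl⟩ := hp
    obtain ⟨d, rfl⟩ := hq
    exact ⟨c + d, by rw [HomogeneousLocalization.val_add, add_mul]⟩
  | smul r q _ hq =>
    obtain ⟨c, rfl⟩ := hq
    exact ⟨r * c, by rw [HomogeneousLocalization.val_mul, Algebra.smul_def,
      HomogeneousLocalization.algebraMap_apply, mul_assoc]⟩

lemma isUnit_mk (x : ProjectiveSpectrum 𝒜) (a s : A) (ha : a ∉ x.asHomogeneousIdeal.toIdeal)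
    (hs : s ∉ x.asHomogeneousIdeal.toIdeal) :
    IsUnit (Localization.mk a ⟨s, hs⟩ : Loc 𝒜 x) := by
  rw [isUnit_iff_exists]
  refine ⟨Localization.mk s ⟨a, ha⟩, ?_, ?_⟩ <;>
  · rw [Localization.mk_mul, ← Localization.mk_one, Localization.mk_eq_mk_iff, Localization.r_iff_exists]
    refine ⟨1, ?_⟩
    simp only [OneMemClass.coe_one, Submonoid.coe_mul, mul_one, mul_comm]

/-- Scalar multiplication of sections (a helper for elaboration). -/
noncomputable def smulS (n : ℤ) {U : Opens (ProjectiveSpectrum.top 𝒜)} (c : O (𝒜 := 𝒜) (op U))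
    (t : sectN (𝒜 := 𝒜) n (op U)) : sectN (𝒜 := 𝒜) n (op U) := c • t

lemma smulS_val (n : ℤ) {U : Opens (ProjectiveSpectrum.top 𝒜)} (c : O (𝒜 := 𝒜) (op U))
    (t : sectN (𝒜 := 𝒜) n (op U)) (x : U) :
    (((smulS n c t).1 x).1 : Loc 𝒜 x.1) = (c.1 x).val * (t.1 x).1 :=
  coe_smul_val n x.1 (c.1 x) (t.1 x)

/-- If neither `a` nor `s` vanishes on `U` then `a / s` generates `O(n)` over `U`. -/
theorem bijective_smul_fracSec (n : ℤ) {i j : ℕ} (a : 𝒜 i) (s : 𝒜 j) (h : (i : ℤ) = j + n)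
    (U : Opens (ProjectiveSpectrum.top 𝒜)) (hU : ∀ x ∈ U, s.1 ∉ x.asHomogeneousIdeal)
    (hU' : ∀ x ∈ U, a.1 ∉ x.asHomogeneousIdeal) :
    Function.Bijective (fun c : O (𝒜 := 𝒜) (op U) => smulS n c (fracSec n a s h U hU)) := by
  constructor
  · intro c d hcd
    refine Subtype.ext (funext fun x => ?_)
    have h1 := congrArg (fun t : sectN (𝒜 := 𝒜) n (op U) => (t.1 x).1) hcd
    dsimp only at h1
    rw [smulS_val, smulS_val, fracSec_val] at h1
    exact HomogeneousLocalization.val_injective _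
      ((isUnit_mk x.1 a.1 s.1 (hU' x.1 x.2) (hU x.1 x.2)).mul_left_injective h1)
  · intro t
    choose c hc using fun x : U => exists_smul_of_mem_twistAt n a s h x.1 (hU' x.1 x.2) (hU x.1 x.2)
      (t.1 x).1 (t.1 x).2
    refine ⟨⟨c, fun x => ?_⟩, ?_⟩
    · obtain ⟨V, hxV, k, i', j', b, r, hr, hbr, hb⟩ := t.2 x
      have hkV : ∀ y : V, y.1 ∈ U := fun y => k.le y.2
      have hmem : ∀ y : V, r.1 * a.1 ∉ y.1.asHomogeneousIdeal := fun y h' =>
        (y.1.isPrime.mem_or_mem h').elim (hr y) (hU' y.1 (hkV y))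
      have key : ∀ y : V, (c (k y)).val * Localization.mk a.1 ⟨s.1, hU y.1 (hkV y)⟩ =
          (Localization.mk b.1 ⟨r.1, hr y⟩ : Loc 𝒜 y.1) := by
        intro y
        rw [← hb y]
        exact hc (k y)
      have key2 : ∀ y : V, (Localization.mk (b.1 * s.1) ⟨r.1 * a.1, hmem y⟩ : Loc 𝒜 y.1) = (c (k y)).val := by
        intro y
        apply (isUnit_mk y.1 a.1 s.1 (hU' y.1 (hkV y)) (hU y.1 (hkV y))).mul_left_injective
        dsimp only
        rw [key, Localization.mk_mul, Localization.mk_eq_mk_iff, Localization.r_iff_exists]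
        refine ⟨1, ?_⟩
        simp only [OneMemClass.coe_one, one_mul, Submonoid.coe_mul]
        ring
      rcases hbr with hbr | hbr
      · have e1 : i' + j = j' + i := by omega
        refine ⟨V, hxV, k, i' + j, ⟨b.1 * s.1, SetLike.mul_mem_graded b.2 s.2⟩,
          ⟨r.1 * a.1, e1 ▸ SetLike.mul_mem_graded r.2 a.2⟩, hmem, fun y => ?_⟩
        apply HomogeneousLocalization.val_injective
        rw [HomogeneousLocalization.val_mk]
        exact (key2 y).symm
      · refine ⟨V, hxV, k, 0, 0, ⟨1, SetLike.GradedOne.one_mem⟩,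
          fun y h => y.1.isPrime.ne_top ((Ideal.eq_top_iff_one _).mpr h), fun y => ?_⟩
        apply HomogeneousLocalization.val_injective
        rw [HomogeneousLocalization.val_mk]
        have h2 := key2 y
        rw [hbr, zero_mul, Localization.mk_zero] at h2
        refine Eq.trans h2.symm ?_
        exact (Localization.mk_zero _).symm
    · refine Subtype.ext (funext fun x => Subtype.ext ?_)
      exact (smulS_val n _ _ x).trans (hc x)

/-- If neither `a` nor `s` vanishes on `U` then `a / s` generates `O(n)` over `U`. -/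
theorem isGen_fracSec (n : ℤ) {i j : ℕ} (a : 𝒜 i) (s : 𝒜 j) (h : (i : ℤ) = j + n)
    (U : (Proj 𝒜).Opens) (hU : ∀ x ∈ U, s.1 ∉ x.asHomogeneousIdeal)
    (hU' : ∀ x ∈ U, a.1 ∉ x.asHomogeneousIdeal) :
    IsGen (M := twist 𝒜 n) (U := U) (fracSec n a s h U hU) := by
  intro V hV
  exact bijective_smul_fracSec n a s h V (fun x hx => hU x (hV hx)) (fun x hx => hU' x (hV hx))

/-! ### Global fractions `a / 1` -/

theorem one_notMem (x : ProjectiveSpectrum 𝒜) : (1 : A) ∉ x.asHomogeneousIdeal := fun h =>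
  x.isPrime.ne_top ((Ideal.eq_top_iff_one _).mpr h)

/-- The section `a / 1` of `O(n)` over `U`, for `a` of degree `i = n`. -/
noncomputable def globSec {n : ℤ} {i : ℕ} (h : (i : ℤ) = n) (a : 𝒜 i) (U : (Proj 𝒜).Opens) : Γ(twist 𝒜 n, U) :=
  fracSec n a (⟨1, SetLike.GradedOne.one_mem⟩ : 𝒜 0) (by simpa using h) U (fun x _ => one_notMem x)

theorem res_globSec {n : ℤ} {i : ℕ} (h : (i : ℤ) = n) (a : 𝒜 i) {U V : (Proj 𝒜).Opens} (hV : V ≤ U) :
    res (twist 𝒜 n) hV (globSec h a U) = globSec h a V := rfl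

theorem val_globSec {n : ℤ} {i : ℕ} (h : (i : ℤ) = n) (a : 𝒜 i) (U : (Proj 𝒜).Opens) (y : U) :
    GrTwist.val (globSec h a U) y = algebraMap A (Loc 𝒜 y.1) (a : A) := by
  rw [← Localization.mk_one_eq_algebraMap]
  rfl

theorem isGen_globSec {n : ℤ} {i : ℕ} (h : (i : ℤ) = n) (a : 𝒜 i) (U : (Proj 𝒜).Opens)
    (hU : ∀ x ∈ U, a.1 ∉ x.asHomogeneousIdeal) : IsGen (globSec h a U) :=
  isGen_fracSec n a _ _ U _ hU

/-- Sections of `O(n)` are determined by their values. -/
theorem sec_ext {n : ℤ} {U : (Proj 𝒜).Opens} {s t : Γ(twist 𝒜 n, U)}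
    (h : ∀ y : U, GrTwist.val s y = GrTwist.val t y) : s = t :=
  Subtype.ext (funext fun x => Subtype.ext (h x))

theorem val_add {n : ℤ} {U : (Proj 𝒜).Opens} (s t : Γ(twist 𝒜 n, U)) (y : U) :
    GrTwist.val (s + t) y = GrTwist.val s y + GrTwist.val t y := rfl

theorem val_smul {n : ℤ} {U : (Proj 𝒜).Opens} (c : Γ(Proj 𝒜, U)) (s : Γ(twist 𝒜 n, U)) (y : U) :
    GrTwist.val (c • s) y = ((show O (𝒜 := 𝒜) (op U) from c).1 y).val * GrTwist.val s y :=
  smulS_val n _ _ y

theorem val_res {n : ℤ} {U V : (Proj 𝒜).Opens} (h : V ≤ U) (s : Γ(twist 𝒜 n, U)) (y : V) :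
    GrTwist.val (res (twist 𝒜 n) h s) y = GrTwist.val s ⟨y.1, h y.2⟩ := rfl

theorem globSec_add {n : ℤ} {i : ℕ} (h : (i : ℤ) = n) (a b : 𝒜 i) (U : (Proj 𝒜).Opens) :
    globSec h (a + b) U = globSec h a U + globSec h b U := by
  refine sec_ext fun x => ?_
  rw [val_add, val_globSec, val_globSec, val_globSec]
  exact map_add (algebraMap A (Loc 𝒜 x.1)) _ _

/-- If `a / 1` generates `O(i)` near `x` and some `b` of degree `i` is not in `x`, then `a` is not in `x`. -/
theorem notMem_of_isGen {n : ℤ} {i : ℕ} (h : (i : ℤ) = n) (a b : 𝒜 i) {V : (Proj 𝒜).Opens}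
    (hV : IsGen (globSec h a V)) (x : V) (hb : b.1 ∉ x.1.asHomogeneousIdeal) : a.1 ∉ x.1.asHomogeneousIdeal := by
  intro ha
  obtain ⟨c, hc⟩ := hV.exists_eq (globSec h b V)
  have h1 : GrTwist.val (globSec h b V) x = GrTwist.val (c • globSec h a V) x := by rw [← hc]
  rw [val_smul, val_globSec, val_globSec] at h1
  have h3 : IsUnit (algebraMap A (Loc 𝒜 x.1) b.1) := by
    exact IsLocalization.map_units (Loc 𝒜 x.1) (⟨b.1, hb⟩ : x.1.asHomogeneousIdeal.toIdeal.primeCompl)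
  rw [h1] at h3
  have h4 : IsUnit (algebraMap A (Loc 𝒜 x.1) a.1) := isUnit_of_mul_isUnit_right h3
  exact (IsLocalization.AtPrime.isUnit_to_map_iff (Loc 𝒜 x.1) x.1.asHomogeneousIdeal.toIdeal a.1).mp h4 ha

/-! ### Dehomogenization at an element of degree one -/

section deh

variable {f : A} (hf : f ∈ 𝒜 1)

open HomogeneousLocalization hiding val_add val_smul

/-- `x ↦ x / f ^ n` on the degree-`n` part. -/
noncomputable def dehAdd (n : ℕ) : 𝒜 n →+ Away 𝒜 f where
  toFun x := Away.mk 𝒜 hf n x.1 (by simp)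
  map_zero' := by
    apply val_injective
    rw [Away.val_mk, val_zero]
    exact Localization.mk_zero _
  map_add' x y := by
    apply val_injective
    rw [HomogeneousLocalization.val_add, Away.val_mk, Away.val_mk, Away.val_mk]
    exact (Localization.add_mk_self _ _ _).symm

/-- Dehomogenization: the ring homomorphism `A → A_(f)`, `x ↦ x / f ^ n` for `x` of degree `n`. -/
noncomputable def deh : A →+* Away 𝒜 f :=
  (DirectSum.toSemiring (A := fun i => 𝒜 i) (dehAdd hf)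
    (by
      apply val_injective
      rw [val_one]
      change (Away.mk 𝒜 hf 0 1 _).val = 1
      rw [Away.val_mk, ← Localization.mk_one]
      congr 1
      exact Subtype.ext (pow_zero f))
    (by
      intro i j x y
      apply val_injective
      rw [val_mul]
      change (Away.mk 𝒜 hf (i + j) (x.1 * y.1) _).val = (Away.mk 𝒜 hf i x.1 _).val * (Away.mk 𝒜 hf j y.1 _).val
      rw [Away.val_mk, Away.val_mk, Away.val_mk, Localization.mk_mul]
      congr 1
      exact Subtype.ext (pow_add f i j))).comp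
    (DirectSum.decomposeRingEquiv 𝒜).toRingHom

theorem deh_of_mem {n : ℕ} {x : A} (hx : x ∈ 𝒜 n) :
    deh hf x = Away.mk 𝒜 hf n x (by simpa using hx) := by
  rw [deh, RingHom.comp_apply]
  have h1 : (DirectSum.decomposeRingEquiv 𝒜).toRingHom x = DirectSum.of (fun i => 𝒜 i) n ⟨x, hx⟩ :=
    DirectSum.decompose_of_mem 𝒜 hx
  rw [h1, DirectSum.toSemiring_of]
  rfl

theorem deh_surjective : Function.Surjective (deh hf) := by
  intro z
  obtain ⟨n, a, ha, rfl⟩ := HomogeneousLocalization.Away.mk_surjective 𝒜 hf z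
  have ha' : a ∈ 𝒜 n := by simpa using ha
  exact ⟨a, deh_of_mem hf ha'⟩

/-- A subring of `Γ(Proj 𝒜, D_+(f))` containing the degree-zero functions and the ratios `t / f`, `t ∈ T`, is everything
when `T` generates `A` over `𝒜 0`. -/
theorem subring_eq_top (T : Set A) (hT : ∀ t ∈ T, t ∈ 𝒜 1) (hgen : Algebra.adjoin (𝒜 0) T = ⊤)
    (B : Subring Γ(Proj 𝒜, Proj.basicOpen 𝒜 f))
    (h0 : ∀ a : 𝒜 0, (Proj.awayToSection 𝒜 f).hom (fromZeroRingHom 𝒜 _ a) ∈ B)
    (h1 : ∀ t (ht : t ∈ T), (Proj.awayToSection 𝒜 f).hom (Away.mk 𝒜 hf 1 t (by simpa using hT t ht)) ∈ B) :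
    B = ⊤ := by
  have key : ∀ x : A, (Proj.awayToSection 𝒜 f).hom (deh hf x) ∈ B := by
    intro x
    have hx : x ∈ Algebra.adjoin (𝒜 0) T := by rw [hgen]; trivial
    induction hx using Algebra.adjoin_induction with
    | mem t ht => rw [deh_of_mem hf (hT t ht)]; exact h1 t ht
    | algebraMap r =>
      have : deh hf (algebraMap (𝒜 0) A r) = fromZeroRingHom 𝒜 _ r := by
        rw [deh_of_mem hf (show (algebraMap (𝒜 0) A r) ∈ 𝒜 0 from r.2)]
        apply val_injective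
        rw [Away.val_mk]
        change Localization.mk _ _ = Localization.mk _ _
        congr 1
        exact Subtype.ext (pow_zero f)
      rw [this]
      exact h0 r
    | add x y _ _ hx hy => rw [map_add, map_add]; exact add_mem hx hy
    | mul x y _ _ hx hy => rw [map_mul, map_mul]; exact mul_mem hx hy
  rw [eq_top_iff]
  intro c _
  obtain ⟨z, rfl⟩ : ∃ z, (Proj.awayToSection 𝒜 f).hom z = c := by
    have := Proj.basicOpenIsoAway_hom 𝒜 f hf one_pos
    have h2 : Function.Bijective (Proj.basicOpenIsoAway 𝒜 f hf one_pos).hom :=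
      ConcreteCategory.bijective_of_isIso _
    rw [this] at h2
    exact h2.2 c
  obtain ⟨x, rfl⟩ := deh_surjective hf z
  exact key x

theorem awayToSection_mk_smul {n : ℤ} (h : ((1 : ℕ) : ℤ) = n) (t : A) (ht : t ∈ 𝒜 1) :
    globSec h (⟨t, ht⟩ : 𝒜 1) (Proj.basicOpen 𝒜 f) =
      ((Proj.awayToSection 𝒜 f).hom (Away.mk 𝒜 hf 1 t (by simpa using ht)) :
        Γ(Proj 𝒜, Proj.basicOpen 𝒜 f)) • globSec h (⟨f, hf⟩ : 𝒜 1) (Proj.basicOpen 𝒜 f) := by
  refine sec_ext fun x => ?_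
  rw [val_smul, val_globSec, val_globSec]
  have e1 : ((show O (𝒜 := 𝒜) (op (Proj.basicOpen 𝒜 f)) from (Proj.awayToSection 𝒜 f).hom
      (Away.mk 𝒜 hf 1 t (by simpa using ht))).1 x).val =
      (Localization.mk t ⟨f ^ 1, fun h => x.2 (x.1.isPrime.mem_of_pow_mem 1 h)⟩ : Loc 𝒜 x.1) := by
    refine (ProjectiveSpectrum.Proj.awayToSection_apply (𝒜 := 𝒜) f _ x).trans ?_
    rw [Away.val_mk, Localization.mk_eq_mk', IsLocalization.map_mk', Localization.mk_eq_mk']
    rfl
  rw [e1, ← Localization.mk_one_eq_algebraMap, ← Localization.mk_one_eq_algebraMap, Localization.mk_mul,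
    Localization.mk_eq_mk_iff, Localization.r_iff_exists]
  exact ⟨1, by simp [mul_comm]⟩

theorem awayToSection_fromZero_smul {n : ℤ} (h : ((1 : ℕ) : ℤ) = n) (a : 𝒜 0) :
    globSec h (⟨(a : A) * f, by simpa using SetLike.mul_mem_graded a.2 hf⟩ : 𝒜 1) (Proj.basicOpen 𝒜 f) =
      ((Proj.awayToSection 𝒜 f).hom (fromZeroRingHom 𝒜 _ a) :
        Γ(Proj 𝒜, Proj.basicOpen 𝒜 f)) • globSec h (⟨f, hf⟩ : 𝒜 1) (Proj.basicOpen 𝒜 f) := by
  have h' : fromZeroRingHom 𝒜 (Submonoid.powers f) a = Away.mk 𝒜 hf 1 ((a : A) * f)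
      (by simpa using SetLike.mul_mem_graded a.2 hf) := by
    apply val_injective
    rw [Away.val_mk]
    change Localization.mk _ _ = Localization.mk _ _
    rw [Localization.mk_eq_mk_iff, Localization.r_iff_exists]
    exact ⟨1, by simp [mul_comm]⟩
  rw [h']
  exact awayToSection_mk_smul hf h _ _

end deh

end K43.GrFrac
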