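import Groth.Agent.EGA2.K39.RelDatum
import Groth.Agent.Ega1.SubSheaf
import Groth.Agent.Ega1.QCohLoc
import Mathlib.Algebra.Category.ModuleCat.Presheaf.Submodule
import Mathlib.AlgebraicGeometry.AffineScheme

/-!
# Graded submodules of a quasi-coherent graded module over `𝒮`

`SubDat ℳ`: a family of homogeneous submodules `N(U) ⊆ ℳ(U)` over the affine opens, stable under restriction and such
that `N(D(r))` is no larger than the localization.  `SubDat.toGr`: the graded `𝒮`-module it defines, quasi-coherent when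
`ℳ` is.
-/

set_option autoImplicit false
universe u

open CategoryTheory CategoryTheory.Limits AlgebraicGeometry TopologicalSpace Opposite TopCat

noncomputable section

namespace K43.SubDat

open K39.GrSect K39.GrFrac K39.GrComap K39.RelBase
open Groth.Agent.Ega1.SubSheaf (section_ext exists_glue)

/-- The decomposition of a subgroup stable under the projections. -/
@[reducible] def decompSub {M : Type*} [AddCommGroup M] (ℳ : ℕ → AddSubgroup M) [DirectSum.Decomposition ℳ]
    {N : Type*} [AddCommGroup N] (j : N →+ M) (hj : Function.Injective j)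
    (h : ∀ (m : N) (d : ℕ), ∃ m' : N, j m' = (DirectSum.decompose ℳ (j m) d : M)) :
    DirectSum.Decomposition (fun d => (ℳ d).comap j) := by
  classical
  refine DirectSum.IsInternal.chooseDecomposition _ ⟨?_, ?_⟩
  · have key : ∀ (x : DirectSum ℕ fun d => (ℳ d).comap j) (d : ℕ),
        (DirectSum.decompose ℳ (j (DirectSum.coeAddMonoidHom (fun d => (ℳ d).comap j) x)) d : M) = j (x d) := by
      intro x d
      induction x using DirectSum.induction_on with
      | zero => simp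
      | of i y =>
        rw [DirectSum.coeAddMonoidHom_of]
        by_cases hid : i = d
        · subst hid
          rw [DirectSum.of_eq_same, DirectSum.decompose_of_mem_same ℳ y.2]
        · rw [DirectSum.of_eq_of_ne _ _ _ (Ne.symm hid), DirectSum.decompose_of_mem_ne ℳ y.2 hid]
          simp
      | add x y hx hy =>
        rw [map_add, map_add, DirectSum.decompose_add, DirectSum.add_apply, AddMemClass.coe_add, hx, hy,
          DirectSum.add_apply, AddMemClass.coe_add, map_add]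
    intro x y hxy
    refine DFinsupp.ext fun d => Subtype.ext (hj ?_)
    rw [← key x d, ← key y d, hxy]
  · intro m
    choose m' hm' using h m
    refine ⟨∑ d ∈ (DirectSum.decompose ℳ (j m)).support,
      DirectSum.of (fun d => (ℳ d).comap j) d ⟨m' d, by
        rw [AddSubgroup.mem_comap, hm' d]
        exact SetLike.coe_mem _⟩, ?_⟩
    apply hj
    rw [map_sum, map_sum]
    simp only [DirectSum.coeAddMonoidHom_of, hm']
    exact DirectSum.sum_support_decompose ℳ (j m)

variable {Y : Scheme.{u}} {𝒮 : RelProj.QCGrAlg Y}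

/-- The function `r` on `U` as a section of `𝒮`. -/
abbrev sr (U : Y.Opens) (r : Γ(Y, U)) : 𝒮.presheaf.obj (op U) := (𝒮.str.app (op U)).hom r

theorem res_sr {U V : Y.Opens} (hU : IsAffineOpen U) (hV : IsAffineOpen V) (i : V ≤ U) (r : Γ(Y, U)) :
    𝒮.res hU hV i (sr U r) = sr V ((Y.presheaf.map (homOfLE i).op).hom r) :=
  (CategoryTheory.congr_fun (𝒮.str.naturality (homOfLE i).op) r).symm

/-- Homogeneous submodules over the affine opens, compatible with restrictions and with localization. -/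
structure Dat (ℳ : RelProj.GrModule 𝒮) where
  /-- the submodule over `U` -/
  N : ∀ (U : Y.Opens), IsAffineOpen U → Submodule (𝒮.presheaf.obj (op U)) (ℳ.mod.val.obj (op U))
  homog : ∀ (U : Y.Opens) (hU : IsAffineOpen U) (m : ℳ.mod.val.obj (op U)), m ∈ N U hU → ∀ d : ℕ,
    (DirectSum.decompose (ℳ.deg U hU) m d : ℳ.mod.val.obj (op U)) ∈ N U hU
  res_mem : ∀ {U V : Y.Opens} (hU : IsAffineOpen U) (hV : IsAffineOpen V) (i : V ≤ U) (m : ℳ.mod.val.obj (op U)),
    m ∈ N U hU → ℳ.res hU hV i m ∈ N V hV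
  lift : ∀ (U : Y.Opens) (hU : IsAffineOpen U) (r : Γ(Y, U)) (m : ℳ.mod.val.obj (op U)),
    ℳ.res hU (hU.basicOpen r) (Y.basicOpen_le r) m ∈ N (Y.basicOpen r) (hU.basicOpen r) →
      ∃ k : ℕ, (sr U r : 𝒮.presheaf.obj (op U)) ^ k • m ∈ N U hU

namespace Dat

variable {ℳ : RelProj.GrModule 𝒮} (D : Dat ℳ)

/-- A family of functions on an affine open whose basic opens cover it generates the unit ideal. -/
theorem one_mem_of_cover {U : Y.Opens} (hU : IsAffineOpen U) (I : Ideal Γ(Y, U))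
    (h : ∀ x ∈ U, ∃ r ∈ I, x ∈ Y.basicOpen r) : (1 : Γ(Y, U)) ∈ I := by
  have h1 : (⨆ r : (I : Set Γ(Y, U)), Y.basicOpen (r : Γ(Y, U))) = U := by
    refine le_antisymm (iSup_le fun r => Y.basicOpen_le _) fun x hx => ?_
    obtain ⟨r, hr, hxr⟩ := h x hx
    exact Opens.mem_iSup.mpr ⟨⟨r, hr⟩, hxr⟩
  rw [IsAffineOpen.iSup_basicOpen_eq_self_iff hU, Ideal.span_eq] at h1
  rw [h1]
  trivial

/-- Membership in `N(U)` is local on `U`. -/
theorem mem_of_local {U : Y.Opens} (hU : IsAffineOpen U) (m : ℳ.mod.val.obj (op U))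
    (h : ∀ x ∈ U, ∃ r : Γ(Y, U), x ∈ Y.basicOpen r ∧
      ℳ.res hU (hU.basicOpen r) (Y.basicOpen_le r) m ∈ D.N (Y.basicOpen r) (hU.basicOpen r)) : m ∈ D.N U hU := by
  let I : Ideal Γ(Y, U) := ((D.N U hU).colon {m}).comap (𝒮.str.app (op U)).hom
  have hI : ∀ r : Γ(Y, U), r ∈ I ↔ (sr U r : 𝒮.presheaf.obj (op U)) • m ∈ D.N U hU := by
    intro r
    rw [Ideal.mem_comap, Submodule.mem_colon]
    exact ⟨fun h => h m rfl, fun h p hp => by rw [Set.mem_singleton_iff.mp hp]; exact h⟩
  have h1 : (1 : Γ(Y, U)) ∈ I := by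
    refine one_mem_of_cover hU I fun x hx => ?_
    obtain ⟨r, hxr, hr⟩ := h x hx
    obtain ⟨k, hk⟩ := D.lift U hU r m hr
    refine ⟨r ^ (k + 1), ?_, ?_⟩
    · rw [hI, sr, map_pow, pow_succ', mul_smul]
      exact Submodule.smul_mem _ _ hk
    · rw [Y.basicOpen_pow r (Nat.succ_pos k)]
      exact hxr
  rw [hI, sr, map_one, one_smul] at h1
  exact h1

/-- The subpresheaf: sections whose restrictions to the affine opens lie in the given submodules. -/
def psub : PresheafOfModules.Submodule ℳ.mod.val where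
  obj V :=
    { carrier := {m | ∀ (U : Y.Opens) (hU : IsAffineOpen U) (i : U ≤ V.unop),
        (ℳ.mod.val.map (homOfLE i).op).hom m ∈ D.N U hU}
      add_mem' := fun {a b} ha hb U hU i => by
        rw [map_add]
        exact add_mem (ha U hU i) (hb U hU i)
      zero_mem' := fun U hU i => by
        rw [map_zero]
        exact zero_mem _
      smul_mem' := fun c m hm U hU i => by
        have h1 := ℳ.mod.val.map_smul (homOfLE i).op c m
        exact h1 ▸ Submodule.smul_mem _ _ (hm U hU i) }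
  map {V W} f := fun m hm U hU i => by
    have h1 : (ℳ.mod.val.map (homOfLE i).op).hom ((ℳ.mod.val.map f).hom m) =
        (ℳ.mod.val.map (homOfLE (i.trans f.unop.le)).op).hom m := by
      exact (pmap_comp ℳ.mod.val f (homOfLE i).op _ rfl m)
    change (ℳ.mod.val.map (homOfLE i).op).hom ((ℳ.mod.val.map f).hom m) ∈ D.N U hU
    rw [h1]
    exact hm U hU _

theorem mem_psub_iff {V : Y.Opens} (m : ℳ.mod.val.obj (op V)) : m ∈ D.psub.obj (op V) ↔
    ∀ (U : Y.Opens) (hU : IsAffineOpen U) (i : U ≤ V), (ℳ.mod.val.map (homOfLE i).op).hom m ∈ D.N U hU := Iff.rfl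

theorem mem_psub_affine {U : Y.Opens} (hU : IsAffineOpen U) (m : ℳ.mod.val.obj (op U)) :
    m ∈ D.psub.obj (op U) ↔ m ∈ D.N U hU := by
  rw [mem_psub_iff]
  constructor
  · intro h
    have h1 := h U hU le_rfl
    rwa [pmap_self ℳ.mod.val (homOfLE (le_refl U)).op rfl m] at h1
  · intro h V hV i
    exact D.res_mem hU hV i m h

/-- Membership is local. -/
theorem mem_psub_of_local {V : Y.Opens} (m : ℳ.mod.val.obj (op V))
    (h : ∀ x ∈ V, ∃ (W : Y.Opens) (i : W ≤ V), x ∈ W ∧ (ℳ.mod.val.map (homOfLE i).op).hom m ∈ D.psub.obj (op W)) :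
    m ∈ D.psub.obj (op V) := by
  rw [mem_psub_iff]
  intro U hU i
  refine D.mem_of_local hU _ fun x hx => ?_
  obtain ⟨W, hWV, hxW, hW⟩ := h x (i hx)
  obtain ⟨r, hr, hxr⟩ := hU.exists_basicOpen_le ⟨x, hxW⟩ hx
  refine ⟨r, hxr, ?_⟩
  have h1 := D.psub.map (homOfLE hr).op hW
  rw [Submodule.mem_comap] at h1
  have h2 := (D.mem_psub_affine (hU.basicOpen r) _).mp h1
  have h3 : ℳ.res hU (hU.basicOpen r) (Y.basicOpen_le r) ((ℳ.mod.val.map (homOfLE i).op).hom m) =
      (ℳ.mod.val.map (homOfLE hr).op).hom ((ℳ.mod.val.map (homOfLE hWV).op).hom m) := by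
    rw [RelProj.GrModule.res_apply, pmap_comp ℳ.mod.val _ _ (homOfLE ((Y.basicOpen_le r).trans i)).op rfl,
      pmap_comp ℳ.mod.val _ _ (homOfLE (hr.trans hWV)).op rfl]
  rw [h3]
  exact h2

/-- The underlying module over the structure sheaf of the ambient module. -/
abbrev os (ℳ : RelProj.GrModule 𝒮) : Y.Modules := (AMod.toOS 𝒮.toQCAlg).obj ℳ.mod

theorem isSheaf : Presheaf.IsSheaf (Opens.grothendieckTopology Y) D.psub.toPresheafOfModules.presheaf := by
  change TopCat.Presheaf.IsSheaf (X := Y.toTopCat) D.psub.toPresheafOfModules.presheaf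
  rw [TopCat.Presheaf.isSheaf_iff_isSheafUniqueGluing]
  intro ι U sf hsf
  obtain ⟨t, ht⟩ := exists_glue (os ℳ) (U := iSup U) U (fun i ↦ le_iSup U i)
    (fun x hx ↦ Opens.mem_iSup.mp hx) (fun i ↦ (sf i).1) (fun i j ↦ congrArg Subtype.val (hsf i j))
  have ht' : (show ℳ.mod.val.obj (op (iSup U)) from t) ∈ D.psub.obj (op (iSup U)) := by
    refine D.mem_psub_of_local _ fun x hx ↦ ?_
    obtain ⟨i, hi⟩ := Opens.mem_iSup.mp hx
    refine ⟨U i, le_iSup U i, hi, ?_⟩
    have h1 := ht i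
    change (ℳ.mod.val.map (homOfLE (le_iSup U i)).op).hom t = (sf i).1 at h1
    exact h1 ▸ (sf i).2
  refine ⟨⟨t, ht'⟩, fun i ↦ Subtype.ext (ht i), ?_⟩
  intro t' h'
  apply Subtype.ext
  refine section_ext (os ℳ) _ _ fun x hx ↦ ?_
  obtain ⟨i, hi⟩ := Opens.mem_iSup.mp hx
  refine ⟨U i, le_iSup U i, hi, ?_⟩
  rw [ht i]
  exact congrArg Subtype.val (h' i)

/-- The sheaf of `𝒮`-modules. -/
def amod : AMod 𝒮.toQCAlg where
  val := D.psub.toPresheafOfModules
  isSheaf := D.isSheaf

/-- The inclusion. -/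
def incl : D.amod ⟶ ℳ.mod := ⟨D.psub.ι⟩

theorem incl_app (V : Y.Opens) (m : D.amod.val.obj (op V)) :
    (D.incl.val.app (op V)).hom m = (show D.psub.obj (op V) from m).1 := rfl

theorem incl_injective (V : Y.Opens) : Function.Injective (D.incl.val.app (op V)).hom := fun _ _ h =>
  Subtype.ext h

theorem incl_mem {U : Y.Opens} (hU : IsAffineOpen U) (m : D.amod.val.obj (op U)) :
    (D.incl.val.app (op U)).hom m ∈ D.N U hU :=
  (D.mem_psub_affine hU _).mp (show D.psub.obj (op U) from m).2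

theorem exists_incl {U : Y.Opens} (hU : IsAffineOpen U) (m : ℳ.mod.val.obj (op U)) (hm : m ∈ D.N U hU) :
    ∃ m' : D.amod.val.obj (op U), (D.incl.val.app (op U)).hom m' = m :=
  ⟨(show D.psub.obj (op U) from ⟨m, (D.mem_psub_affine hU m).mpr hm⟩), rfl⟩

/-- The inclusion over `U` as an additive map. -/
def inclAdd (U : Y.Opens) : D.amod.val.obj (op U) →+ ℳ.mod.val.obj (op U) :=
  (D.incl.val.app (op U)).hom.toAddMonoidHom

theorem inclAdd_apply (U : Y.Opens) (m : D.amod.val.obj (op U)) :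
    D.inclAdd U m = (D.incl.val.app (op U)).hom m := rfl

theorem incl_res {U V : Y.Opens} (i : V ≤ U) (m : D.amod.val.obj (op U)) :
    (D.incl.val.app (op V)).hom ((D.amod.val.map (homOfLE i).op).hom m) =
      (ℳ.mod.val.map (homOfLE i).op).hom ((D.incl.val.app (op U)).hom m) := rfl

/-- The graded `𝒮`-module of the datum. -/
def toGr : RelProj.GrModule 𝒮 where
  mod := D.amod
  deg U hU d := (ℳ.deg U hU d).comap (D.inclAdd U)
  decomp U hU := decompSub (ℳ.deg U hU) (D.inclAdd U) (D.incl_injective U) fun m d =>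
    D.exists_incl hU _ (D.homog U hU _ (D.incl_mem hU m) d)
  gradedSMul U hU := ⟨fun {i j a m} ha hm => by
    change (D.incl.val.app (op U)).hom (a • m) ∈ ℳ.deg U hU (i +ᵥ j)
    have h1 : (D.incl.val.app (op U)).hom (a • m) = a • (D.incl.val.app (op U)).hom m := rfl
    rw [h1]
    exact (ℳ.gradedSMul U hU).smul_mem ha hm⟩
  map_mem {U V} hU hV i d m hm := by
    change (ℳ.mod.val.map (homOfLE i).op).hom ((D.incl.val.app (op U)).hom m) ∈ ℳ.deg V hV d
    exact ℳ.map_mem hU hV i hm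

theorem isGrModHom_incl : RelProj.IsGrModHom (ℳ := D.toGr) (𝒩 := ℳ) D.incl := fun _ _ _ _ hm => hm

theorem isQCoh (hℳ : Coh.IsQCoh ((AMod.toOS 𝒮.toQCAlg).obj ℳ.mod)) :
    Coh.IsQCoh ((AMod.toOS 𝒮.toQCAlg).obj D.toGr.mod) := by
  refine Groth.Agent.Ega1.QCohLoc.isQCoh_of_isLocOnAffines _ fun U hU r => ?_
  have hL := isLocHom_res ℳ hℳ U hU r
  refine ⟨fun s => ?_, fun t ht => ?_⟩
  · let s1 : D.amod.val.obj (op (Y.basicOpen r)) := s
    obtain ⟨k, m, hm⟩ := hL.surjM ((D.incl.val.app (op (Y.basicOpen r))).hom s1)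
    have h1 : ℳ.res hU (hU.basicOpen r) (Y.basicOpen_le r) m ∈ D.N (Y.basicOpen r) (hU.basicOpen r) := by
      rw [← hm]
      exact Submodule.smul_mem _ _ (D.incl_mem (hU.basicOpen r) s1)
    obtain ⟨l, hl⟩ := D.lift U hU r m h1
    obtain ⟨t, ht⟩ := D.exists_incl hU _ hl
    refine ⟨l + k, t, ?_⟩
    refine D.incl_injective (Y.basicOpen r) ?_
    refine Eq.trans (b := ℳ.res hU (hU.basicOpen r) (Y.basicOpen_le r) ((D.incl.val.app (op U)).hom t)) rfl ?_
    rw [ht, map_smulₛₗ, ← hm, smul_smul]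
    have h2 : (𝒮.res hU (hU.basicOpen r) (Y.basicOpen_le r)).toRingHom ((sr U r : 𝒮.presheaf.obj (op U)) ^ l) *
        (𝒮.res hU (hU.basicOpen r) (Y.basicOpen_le r)) ((𝒮.str.app (op U)).hom r) ^ k =
        (𝒮.str.app (op (Y.basicOpen r))).hom (((Y.presheaf.map (homOfLE (Y.basicOpen_le r)).op).hom r) ^ (l + k)) := by
      have h3 : (𝒮.res hU (hU.basicOpen r) (Y.basicOpen_le r)).toRingHom (sr U r : 𝒮.presheaf.obj (op U)) =
          sr (Y.basicOpen r) ((Y.presheaf.map (homOfLE (Y.basicOpen_le r)).op).hom r) :=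
        res_sr hU (hU.basicOpen r) (Y.basicOpen_le r) r
      have h4 : (𝒮.res hU (hU.basicOpen r) (Y.basicOpen_le r)) ((𝒮.str.app (op U)).hom r) =
          sr (Y.basicOpen r) ((Y.presheaf.map (homOfLE (Y.basicOpen_le r)).op).hom r) := h3
      rw [map_pow, h3, h4, ← pow_add, map_pow]
    exact congrArg (· • (D.incl.val.app (op (Y.basicOpen r))).hom s1) h2
  · let t1 : D.amod.val.obj (op U) := t
    obtain ⟨k, hk⟩ := hL.injM ((D.incl.val.app (op U)).hom t1) (congrArg (D.incl.val.app (op (Y.basicOpen r))).hom ht)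
    refine ⟨k, D.incl_injective U ?_⟩
    refine Eq.trans (b := (𝒮.str.app (op U)).hom (r ^ k) • (D.incl.val.app (op U)).hom t1) rfl ?_
    rw [map_pow, hk]
    exact (map_zero (D.incl.val.app (op U)).hom).symm

end Dat

end K43.SubDat
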