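import Groth.Agent.EGA2.K36.AffGr
import Groth.Agent.EGA2.K43.SubDat

/-!
# Gluing a graded module over a quasi-coherent graded algebra from data on the affine opens

`exists_glued D`: for `D : K36.AffGr 𝒮` there is a graded `𝒮`-module with the sections `D.M U` over the affine opens `U`.
Sections over an open `V` are the compatible families of elements of `D.M U`, `U ≤ V` affine.
-/

set_option autoImplicit false
universe u

open CategoryTheory CategoryTheory.Limits AlgebraicGeometry TopologicalSpace Opposite TopCat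

noncomputable section

namespace K43.AffGrMod

open K36 RelProj K43.SubDat

/-- Gluing elements of a module from localizations. -/
theorem exists_glue_alg {A M : Type*} [CommRing A] [AddCommGroup M] [Module A M] {ι : Type*} [Finite ι]
    (g : ι → A) (hg : Ideal.span (Set.range g) = ⊤) {B : ι → Type*} [∀ i, CommRing (B i)]
    (φ : ∀ i, A →+* B i) {N : ι → Type*} [∀ i, AddCommGroup (N i)] [∀ i, Module (B i) (N i)]
    (ρ : ∀ i, M →+ N i) (hρ : ∀ i a m, ρ i (a • m) = φ i a • ρ i m)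
    (hu : ∀ i, IsUnit (φ i (g i))) (t : ∀ i, N i)
    (hs : ∀ i, ∃ (n : ℕ) (m : M), ρ i m = φ i (g i) ^ n • t i)
    (hc : ∀ (i j : ι) (n : ℕ) (m m' : M), ρ i m = φ i (g i) ^ n • t i →
      ρ j m' = φ j (g j) ^ n • t j → ∃ k : ℕ, (g i * g j) ^ k • (g j ^ n • m - g i ^ n • m') = 0) :
    ∃ m : M, ∀ i, ρ i m = t i := by
  have _ := Fintype.ofFinite ι
  choose n₀ m₀ h₀ using hs
  obtain ⟨n, hn⟩ : ∃ n, ∀ i, n₀ i ≤ n := (Set.finite_range n₀).bddAbove.imp fun n hn i => hn ⟨i, rfl⟩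
  let m (i : ι) : M := g i ^ (n - n₀ i) • m₀ i
  have hm (i : ι) : ρ i (m i) = φ i (g i) ^ n • t i := by
    simp only [m]
    rw [hρ, h₀, smul_smul, map_pow, ← pow_add, Nat.sub_add_cancel (hn i)]
  choose k₀ hk₀ using fun i j => hc i j n (m i) (m j) (hm i) (hm j)
  obtain ⟨k, hk⟩ : ∃ k, ∀ i j, k₀ i j ≤ k := by
    obtain ⟨k, hk⟩ := (Set.finite_range fun p : ι × ι => k₀ p.1 p.2).bddAbove
    exact ⟨k, fun i j => hk ⟨(i, j), rfl⟩⟩
  have hk' (i j : ι) : (g i * g j) ^ k • (g j ^ n • m i - g i ^ n • m j) = 0 := by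
    rw [← Nat.sub_add_cancel (hk i j), pow_add, mul_smul, hk₀, smul_zero]
  let m' (i : ι) : M := g i ^ k • m i
  have hm' (i : ι) : ρ i (m' i) = φ i (g i) ^ (n + k) • t i := by
    simp only [m']
    rw [hρ, hm, smul_smul, map_pow, ← pow_add, add_comm]
  have hmm (i j : ι) : g j ^ (n + k) • m' i = g i ^ (n + k) • m' j := by
    have h0 := hk' i j
    rw [smul_sub, sub_eq_zero] at h0
    have e1 : g j ^ (n + k) * g i ^ k = (g i * g j) ^ k * g j ^ n := by ring
    have e2 : g i ^ (n + k) * g j ^ k = (g i * g j) ^ k * g i ^ n := by ring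
    calc g j ^ (n + k) • m' i = ((g i * g j) ^ k * g j ^ n) • m i := by
          rw [← e1, mul_smul]
      _ = ((g i * g j) ^ k * g i ^ n) • m j := by rw [mul_smul, mul_smul]; exact h0
      _ = g i ^ (n + k) • m' j := by rw [← e2, mul_smul]
  have hg' : Ideal.span (Set.range fun i => g i ^ (n + k)) = ⊤ := by
    have := Ideal.span_pow_eq_top (Set.range g) hg (n + k)
    rw [← Set.range_comp] at this
    exact this
  have h1 : (1 : A) ∈ Ideal.span (Set.range fun i => g i ^ (n + k)) := by rw [hg']; trivial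
  obtain ⟨a, ha⟩ := (Ideal.mem_span_range_iff_exists_fun).1 h1
  refine ⟨∑ j, a j • m' j, fun i => ?_⟩
  have h2 : g i ^ (n + k) • (∑ j, a j • m' j) = m' i := by
    rw [Finset.smul_sum]
    have : ∀ j, g i ^ (n + k) • a j • m' j = (a j * g j ^ (n + k)) • m' i := fun j => by
      rw [smul_comm, ← hmm i j, mul_smul]
    rw [Finset.sum_congr rfl fun j _ => this j, ← Finset.sum_smul, ha, one_smul]
  have h3 : φ i (g i) ^ (n + k) • ρ i (∑ j, a j • m' j) = φ i (g i) ^ (n + k) • t i := by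
    rw [← map_pow, ← hρ, h2, hm', map_pow]
  exact ((hu i).pow (n + k)).smul_left_cancel.1 h3

variable {S : Scheme.{u}} {𝒮 : QCGrAlg S} (D : AffGr 𝒮)

/-- The restriction maps of `𝒮`. -/
abbrev sres {U V : S.Opens} (h : V ≤ U) : 𝒮.presheaf.obj (op U) →+* 𝒮.presheaf.obj (op V) :=
  (𝒮.presheaf.map (homOfLE h).op).hom

theorem sres_sres {U V W : S.Opens} (h : V ≤ U) (h' : W ≤ V) (a : 𝒮.presheaf.obj (op U)) :
    sres h' (sres h a) = sres (h'.trans h) a := by
  change (𝒮.presheaf.map (homOfLE h').op).hom ((𝒮.presheaf.map (homOfLE h).op).hom a) = _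
  rw [← CommRingCat.comp_apply, ← Functor.map_comp]
  rfl

theorem sres_self {U : S.Opens} (h : U ≤ U) (a : 𝒮.presheaf.obj (op U)) : sres h a = a := by
  have : (homOfLE h).op = 𝟙 (op U) := rfl
  rw [sres, this, 𝒮.presheaf.map_id]
  rfl

theorem sres_sr {U V : S.Opens} (h : V ≤ U) (r : Γ(S, U)) :
    sres (𝒮 := 𝒮) h (sr U r) = sr V ((S.presheaf.map (homOfLE h).op).hom r) :=
  (CategoryTheory.congr_fun (𝒮.str.naturality (homOfLE h).op) r).symm

theorem isUnit_sres_sr (U : S.Opens) (r : Γ(S, U)) :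
    IsUnit (sres (𝒮 := 𝒮) (S.basicOpen_le r) (sr U r)) := by
  rw [sres_sr]
  exact (RingedSpace.isUnit_res_basicOpen _ r).map (𝒮.str.app (op (S.basicOpen r))).hom

/-- Elements vanishing locally vanish. -/
theorem eq_zero_of_local {U : S.Opens} (hU : IsAffineOpen U) (m : D.M U hU)
    (h : ∀ x ∈ U, ∃ r : Γ(S, U), x ∈ S.basicOpen r ∧ D.ρ hU (hU.basicOpen r) (S.basicOpen_le r) m = 0) : m = 0 := by
  let I : Ideal Γ(S, U) := ((⊥ : Submodule (𝒮.presheaf.obj (op U)) (D.M U hU)).colon {m}).comap (𝒮.str.app (op U)).hom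
  have hI : ∀ r : Γ(S, U), r ∈ I ↔ (sr U r : 𝒮.presheaf.obj (op U)) • m = 0 := by
    intro r
    rw [Ideal.mem_comap, Submodule.mem_colon]
    exact ⟨fun h => (Submodule.mem_bot _).mp (h m rfl), fun h p hp => by
      rw [Set.mem_singleton_iff.mp hp]; exact (Submodule.mem_bot _).mpr h⟩
  have h1 : (1 : Γ(S, U)) ∈ I := by
    refine Dat.one_mem_of_cover hU I fun x hx => ?_
    obtain ⟨r, hxr, hr⟩ := h x hx
    obtain ⟨k, hk⟩ := D.loc_inj hU r m hr
    refine ⟨r ^ (k + 1), ?_, ?_⟩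
    · rw [hI, sr, map_pow, pow_succ', mul_smul]
      have hk' : (𝒮.str.app (op U)).hom r ^ k • m = 0 := hk
      rw [hk', smul_zero]
    · rw [S.basicOpen_pow r (Nat.succ_pos k)]
      exact hxr
  rw [hI, sr, map_one, one_smul] at h1
  exact h1

theorem eq_of_local {U : S.Opens} (hU : IsAffineOpen U) (m m' : D.M U hU)
    (h : ∀ x ∈ U, ∃ r : Γ(S, U), x ∈ S.basicOpen r ∧ D.ρ hU (hU.basicOpen r) (S.basicOpen_le r) m =
      D.ρ hU (hU.basicOpen r) (S.basicOpen_le r) m') : m = m' := by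
  rw [← sub_eq_zero]
  refine eq_zero_of_local D hU _ fun x hx => ?_
  obtain ⟨r, hr, h1⟩ := h x hx
  exact ⟨r, hr, by rw [map_sub, h1, sub_self]⟩

/-- Gluing along finitely many basic opens. -/
theorem exists_glue_basic {U : S.Opens} (hU : IsAffineOpen U) {ι : Type*} [Finite ι] (r : ι → Γ(S, U))
    (hr : Ideal.span (Set.range r) = ⊤) (z : ∀ i, D.M (S.basicOpen (r i)) (hU.basicOpen (r i)))
    (hz : ∀ (i j : ι) (W : S.Opens) (hW : IsAffineOpen W) (hi : W ≤ S.basicOpen (r i)) (hj : W ≤ S.basicOpen (r j)),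
      D.ρ (hU.basicOpen (r i)) hW hi (z i) = D.ρ (hU.basicOpen (r j)) hW hj (z j)) :
    ∃ m : D.M U hU, ∀ i, D.ρ hU (hU.basicOpen (r i)) (S.basicOpen_le (r i)) m = z i := by
  refine exists_glue_alg (fun i => (sr U (r i) : 𝒮.presheaf.obj (op U))) ?_ (fun i => sres (S.basicOpen_le (r i)))
    (fun i => D.ρ hU (hU.basicOpen (r i)) (S.basicOpen_le (r i))) (fun i a m => D.ρ_smul _ _ _ a m)
    (fun i => isUnit_sres_sr U (r i)) z (fun i => D.loc_surj hU (r i) (z i)) ?_
  · have h1 : Ideal.map (𝒮.str.app (op U)).hom (Ideal.span (Set.range r)) =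
        Ideal.span (Set.range fun i => (sr U (r i) : 𝒮.presheaf.obj (op U))) := by
      rw [Ideal.map_span, ← Set.range_comp]
      rfl
    rw [← h1, hr, Ideal.map_top]
  · intro i j n m m' hm hm'
    obtain ⟨k, hk⟩ := D.loc_inj hU (r i * r j) ((sr U (r j) : 𝒮.presheaf.obj (op U)) ^ n • m -
        (sr U (r i) : 𝒮.presheaf.obj (op U)) ^ n • m') (by
      have hi : S.basicOpen (r i * r j) ≤ S.basicOpen (r i) := by rw [S.basicOpen_mul]; exact inf_le_left
      have hj : S.basicOpen (r i * r j) ≤ S.basicOpen (r j) := by rw [S.basicOpen_mul]; exact inf_le_right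
      have e1 : D.ρ hU (hU.basicOpen (r i * r j)) (S.basicOpen_le _) m =
          sres (𝒮 := 𝒮) (hi.trans (S.basicOpen_le (r i))) (sr U (r i)) ^ n •
            D.ρ (hU.basicOpen (r i)) (hU.basicOpen (r i * r j)) hi (z i) := by
        rw [← D.ρ_ρ hU (hU.basicOpen (r i)) _ (S.basicOpen_le _) hi, hm, D.ρ_smul]
        congr 1
        rw [map_pow]
        congr 1
        exact sres_sres _ _ _
      have e2 : D.ρ hU (hU.basicOpen (r i * r j)) (S.basicOpen_le _) m' =
          sres (𝒮 := 𝒮) (hj.trans (S.basicOpen_le (r j))) (sr U (r j)) ^ n •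
            D.ρ (hU.basicOpen (r j)) (hU.basicOpen (r i * r j)) hj (z j) := by
        rw [← D.ρ_ρ hU (hU.basicOpen (r j)) _ (S.basicOpen_le _) hj, hm', D.ρ_smul]
        congr 1
        rw [map_pow]
        congr 1
        exact sres_sres _ _ _
      rw [map_sub, D.ρ_smul, D.ρ_smul, e1, e2, hz i j _ (hU.basicOpen (r i * r j)) hi hj, map_pow, map_pow, smul_smul,
        smul_smul, sub_eq_zero]
      congr 1
      exact mul_comm _ _)
    refine ⟨k, ?_⟩
    have h2 : (sr U (r i) : 𝒮.presheaf.obj (op U)) * sr U (r j) = (𝒮.str.app (op U)).hom (r i * r j) :=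
      (map_mul _ _ _).symm
    rw [h2]
    exact hk

/-- The compatible families over `V`. -/
def secSub (V : S.Opens) : AddSubgroup (∀ U : {U : S.Opens // IsAffineOpen U ∧ U ≤ V}, D.M U.1 U.2.1) where
  carrier := {m | ∀ (U U' : S.Opens) (hU : IsAffineOpen U) (hU' : IsAffineOpen U') (h : U ≤ V) (i : U' ≤ U),
    D.ρ hU hU' i (m ⟨U, hU, h⟩) = m ⟨U', hU', i.trans h⟩}
  zero_mem' := fun U U' hU hU' h i => map_zero _
  add_mem' := fun {a b} ha hb U U' hU hU' h i => by
    simp only [Pi.add_apply]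
    rw [map_add, ha U U' hU hU' h i, hb U U' hU hU' h i]
  neg_mem' := fun {a} ha U U' hU hU' h i => by
    simp only [Pi.neg_apply]
    rw [map_neg, ha U U' hU hU' h i]

/-- The compatible families over `V`. -/
def Sec (V : S.Opens) : Type u := ↥(secSub D V)

instance (V : S.Opens) : AddCommGroup (Sec D V) := inferInstanceAs (AddCommGroup ↥(secSub D V))

variable {D}

/-- The component over `U`. -/
def Sec.ap {V : S.Opens} (m : Sec D V) (U : S.Opens) (hU : IsAffineOpen U) (h : U ≤ V) : D.M U hU := m.1 ⟨U, hU, h⟩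

theorem Sec.ρ_ap {V : S.Opens} (m : Sec D V) {U U' : S.Opens} (hU : IsAffineOpen U) (hU' : IsAffineOpen U') (h : U ≤ V)
    (i : U' ≤ U) : D.ρ hU hU' i (m.ap U hU h) = m.ap U' hU' (i.trans h) := m.2 U U' hU hU' h i

theorem Sec.ext' {V : S.Opens} {m m' : Sec D V} (h : ∀ (U : S.Opens) (hU : IsAffineOpen U) (i : U ≤ V),
    m.ap U hU i = m'.ap U hU i) : m = m' :=
  Subtype.ext (funext fun U => h U.1 U.2.1 U.2.2)

theorem Sec.ap_add {V : S.Opens} (m m' : Sec D V) (U : S.Opens) (hU : IsAffineOpen U) (h : U ≤ V) :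
    (m + m').ap U hU h = m.ap U hU h + m'.ap U hU h := rfl

theorem Sec.ap_zero {V : S.Opens} (U : S.Opens) (hU : IsAffineOpen U) (h : U ≤ V) : (0 : Sec D V).ap U hU h = 0 := rfl

/-- Constructor. -/
def Sec.mk' {V : S.Opens} (f : ∀ (U : S.Opens) (hU : IsAffineOpen U), U ≤ V → D.M U hU)
    (hf : ∀ (U U' : S.Opens) (hU : IsAffineOpen U) (hU' : IsAffineOpen U') (h : U ≤ V) (i : U' ≤ U),
      D.ρ hU hU' i (f U hU h) = f U' hU' (i.trans h)) : Sec D V := ⟨fun U => f U.1 U.2.1 U.2.2, hf⟩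

theorem Sec.ap_mk' {V : S.Opens} (f : ∀ (U : S.Opens) (hU : IsAffineOpen U), U ≤ V → D.M U hU)
    (hf : ∀ (U U' : S.Opens) (hU : IsAffineOpen U) (hU' : IsAffineOpen U') (h : U ≤ V) (i : U' ≤ U),
      D.ρ hU hU' i (f U hU h) = f U' hU' (i.trans h)) (U : S.Opens) (hU : IsAffineOpen U) (h : U ≤ V) :
    (Sec.mk' f hf).ap U hU h = f U hU h := rfl

variable (D)

instance instSMulSec (V : S.Opens) : SMul (𝒮.presheaf.obj (op V)) (Sec D V) where
  smul a m := Sec.mk' (fun U hU h => sres h a • m.ap U hU h) fun U U' hU hU' h i => by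
    rw [D.ρ_smul, m.ρ_ap hU hU' h i]
    congr 1
    exact sres_sres _ _ _

variable {D} in
theorem Sec.ap_smul {V : S.Opens} (a : 𝒮.presheaf.obj (op V)) (m : Sec D V) (U : S.Opens) (hU : IsAffineOpen U)
    (h : U ≤ V) : (a • m).ap U hU h = sres h a • m.ap U hU h := rfl

instance instModSec (V : S.Opens) : Module (𝒮.presheaf.obj (op V)) (Sec D V) where
  one_smul m := Sec.ext' fun U hU h => by rw [Sec.ap_smul, map_one, one_smul]
  mul_smul a b m := Sec.ext' fun U hU h => by rw [Sec.ap_smul, Sec.ap_smul, Sec.ap_smul, map_mul, mul_smul]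
  smul_zero a := Sec.ext' fun U hU h => by rw [Sec.ap_smul, Sec.ap_zero, smul_zero]
  smul_add a m m' := Sec.ext' fun U hU h => by
    rw [Sec.ap_smul, Sec.ap_add, Sec.ap_add, Sec.ap_smul, Sec.ap_smul, smul_add]
  add_smul a b m := Sec.ext' fun U hU h => by
    rw [Sec.ap_smul, Sec.ap_add, Sec.ap_smul, Sec.ap_smul, map_add, add_smul]
  zero_smul m := Sec.ext' fun U hU h => by rw [Sec.ap_smul, map_zero, zero_smul, Sec.ap_zero]

/-- Restriction of families. -/
def resSec {V W : S.Opens} (h : W ≤ V) : Sec D V →+ Sec D W where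
  toFun m := Sec.mk' (fun U hU i => m.ap U hU (i.trans h)) fun U U' hU hU' i j => m.ρ_ap hU hU' (i.trans h) j
  map_zero' := rfl
  map_add' _ _ := rfl

theorem ap_resSec {V W : S.Opens} (h : W ≤ V) (m : Sec D V) (U : S.Opens) (hU : IsAffineOpen U) (i : U ≤ W) :
    (resSec D h m).ap U hU i = m.ap U hU (i.trans h) := rfl

/-- The presheaf of abelian groups. -/
def preAb : TopCat.Presheaf AddCommGrpCat.{u} S.toTopCat where
  obj V := AddCommGrpCat.of (Sec D V.unop)
  map f := AddCommGrpCat.ofHom (resSec D f.unop.le)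
  map_id _ := rfl
  map_comp _ _ := rfl

/-- Gluing of a family of sections over one affine open. -/
theorem exists_affine {ι : Type*} (W : ι → S.Opens) (s : ∀ a, Sec D (W a))
    (hs : ∀ (a b : ι) (U : S.Opens) (hU : IsAffineOpen U) (ha : U ≤ W a) (hb : U ≤ W b),
      (s a).ap U hU ha = (s b).ap U hU hb) (U : S.Opens) (hU : IsAffineOpen U) (hUW : U ≤ ⨆ a, W a) :
    ∃ m : D.M U hU, ∀ (a : ι) (U' : S.Opens) (hU' : IsAffineOpen U') (i : U' ≤ U) (h : U' ≤ W a),
      D.ρ hU hU' i m = (s a).ap U' hU' h := by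
  classical
  have h1 : ∀ x : U, ∃ (a : ι) (r : Γ(S, U)), x.1 ∈ S.basicOpen r ∧ S.basicOpen r ≤ W a := by
    intro x
    obtain ⟨a, ha⟩ := Opens.mem_iSup.mp (hUW x.2)
    obtain ⟨r, hr, hxr⟩ := hU.exists_basicOpen_le ⟨x.1, ha⟩ x.2
    exact ⟨a, r, hxr, hr⟩
  choose a r hxr hra using h1
  have h2 : Ideal.span (Set.range r) = ⊤ := by
    rw [← hU.iSup_basicOpen_eq_self_iff]
    refine le_antisymm (iSup_le fun r => S.basicOpen_le _) fun x hx => ?_
    exact Opens.mem_iSup.mpr ⟨⟨r ⟨x, hx⟩, ⟨x, hx⟩, rfl⟩, hxr ⟨x, hx⟩⟩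
  obtain ⟨T, hT, hT'⟩ := (Ideal.span_eq_top_iff_finite _).mp h2
  have h3 : ∀ t : T, ∃ x : U, r x = t.1 := fun t => hT t.2
  choose x hx using h3
  have h4 : Ideal.span (Set.range fun t : T => r (x t)) = ⊤ := by
    have : (Set.range fun t : T => r (x t)) = (T : Set Γ(S, U)) := by
      ext y
      constructor
      · rintro ⟨t, rfl⟩
        simp only [hx t]
        exact t.2
      · intro hy
        exact ⟨⟨y, hy⟩, hx ⟨y, hy⟩⟩
    rw [this, hT']
  obtain ⟨m, hm⟩ := exists_glue_basic D hU (fun t : T => r (x t)) h4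
    (fun t => (s (a (x t))).ap _ (hU.basicOpen _) (hra (x t))) fun i j V hV hi hj => by
      rw [Sec.ρ_ap, Sec.ρ_ap]
      exact hs _ _ V hV _ _
  refine ⟨m, fun b U' hU' i h => ?_⟩
  refine eq_of_local D hU' _ _ fun y hy => ?_
  have h5 : U ≤ ⨆ t : (Set.range fun t : T => r (x t)), S.basicOpen (t : Γ(S, U)) := by
    rw [hU.self_le_iSup_basicOpen_iff]
    exact h4
  obtain ⟨⟨_, t, rfl⟩, hyt⟩ := Opens.mem_iSup.mp (h5 (i hy))
  obtain ⟨q, hq, hyq⟩ := hU'.exists_basicOpen_le ⟨y, hyt⟩ hy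
  refine ⟨q, hyq, ?_⟩
  rw [D.ρ_ρ, Sec.ρ_ap, ← D.ρ_ρ hU (hU.basicOpen (r (x t))) (hU'.basicOpen q) (S.basicOpen_le _) hq, hm t, Sec.ρ_ap]
  exact hs _ _ _ _ _ _

theorem isSheaf_preAb : (preAb D).IsSheaf := by
  rw [TopCat.Presheaf.isSheaf_iff_isSheafUniqueGluing]
  intro ι W sf hsf
  have hs : ∀ (a b : ι) (U : S.Opens) (hU : IsAffineOpen U) (ha : U ≤ W a) (hb : U ≤ W b),
      (show Sec D (W a) from sf a).ap U hU ha = (show Sec D (W b) from sf b).ap U hU hb := by
    intro a b U hU ha hb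
    exact congrArg (fun φ : Sec D (W a ⊓ W b) => φ.ap U hU (le_inf ha hb)) (hsf a b)
  choose f hf using fun (U : S.Opens) (hU : IsAffineOpen U) (h : U ≤ ⨆ a, W a) =>
    exists_affine D W (fun a => (show Sec D (W a) from sf a)) hs U hU h
  have uniq : ∀ (U : S.Opens) (hU : IsAffineOpen U) (_ : U ≤ ⨆ a, W a) (m m' : D.M U hU),
      (∀ (a : ι) (U' : S.Opens) (hU' : IsAffineOpen U') (i : U' ≤ U) (_ : U' ≤ W a),
        D.ρ hU hU' i m = D.ρ hU hU' i m') → m = m' := by
    intro U hU hUW m m' h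
    refine eq_of_local D hU _ _ fun x hx => ?_
    obtain ⟨a, ha⟩ := Opens.mem_iSup.mp (hUW hx)
    obtain ⟨r, hr, hxr⟩ := hU.exists_basicOpen_le ⟨x, ha⟩ hx
    exact ⟨r, hxr, h a _ (hU.basicOpen r) _ hr⟩
  let t : Sec D (⨆ a, W a) := Sec.mk' f fun U U' hU hU' h i =>
    uniq U' hU' (i.trans h) _ _ fun a V hV j k => by
      rw [D.ρ_ρ, hf U hU h a V hV _ k, hf U' hU' _ a V hV j k]
  refine ⟨t, fun a => ?_, fun t' ht' => ?_⟩
  · refine Sec.ext' fun U hU h => ?_
    have h1 := hf U hU (h.trans (le_iSup W a)) a U hU le_rfl h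
    rw [D.ρ_self] at h1
    exact h1
  · refine Sec.ext' fun U hU h => ?_
    refine uniq U hU h _ _ fun a U' hU' i k => ?_
    refine Eq.trans ((show Sec D (⨆ a, W a) from t').ρ_ap hU hU' h i) ?_
    refine Eq.trans ?_ (hf U hU h a U' hU' i k).symm
    exact congrArg (fun φ : Sec D (W a) => φ.ap U' hU' k) (ht' a)

instance (U : (Opens S)ᵒᵖ) : Module ((AMod.ringSheaf 𝒮.toQCAlg).obj.obj U) ((preAb D).obj U) :=
  inferInstanceAs (Module (𝒮.presheaf.obj (op U.unop)) (Sec D U.unop))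

/-- The presheaf of `𝒮`-modules. -/
def preMod : PresheafOfModules.{u} (AMod.ringSheaf 𝒮.toQCAlg).obj :=
  PresheafOfModules.ofPresheaf (preAb D) (by
    intro U V f r m
    refine Sec.ext' fun W hW i => ?_
    change sres (i.trans f.unop.le) (show 𝒮.presheaf.obj (op U.unop) from r) •
        (show Sec D U.unop from m).ap W hW (i.trans f.unop.le) =
      sres i (sres f.unop.le (show 𝒮.presheaf.obj (op U.unop) from r)) •
        (show Sec D U.unop from m).ap W hW (i.trans f.unop.le)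
    rw [sres_sres])

/-- The sheaf of `𝒮`-modules. -/
def amod : AMod 𝒮.toQCAlg where
  val := preMod D
  isSheaf := isSheaf_preAb D

/-- The sections over an affine open. -/
def eqv (U : S.Opens) (hU : IsAffineOpen U) : (amod D).val.obj (op U) ≃+ D.M U hU where
  toFun m := (show Sec D U from m).ap U hU le_rfl
  invFun x := (Sec.mk' (fun V hV h => D.ρ hU hV h x) fun V V' hV hV' h i => D.ρ_ρ hU hV hV' h i x : Sec D U)
  left_inv m := Sec.ext' (D := D) fun V hV h => (show Sec D U from m).ρ_ap hU hV le_rfl h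
  right_inv x := D.ρ_self hU x
  map_add' _ _ := rfl

theorem eqv_smul (U : S.Opens) (hU : IsAffineOpen U) (a : 𝒮.presheaf.obj (op U)) (x : (amod D).val.obj (op U)) :
    eqv D U hU (a • x) = a • eqv D U hU x := by
  change sres le_rfl a • (show Sec D U from x).ap U hU le_rfl = a • (show Sec D U from x).ap U hU le_rfl
  rw [sres_self]

theorem eqv_res (U V : S.Opens) (hU : IsAffineOpen U) (hV : IsAffineOpen V) (h : V ≤ U)
    (x : (amod D).val.obj (op U)) :
    eqv D V hV (((amod D).val.map (homOfLE h).op).hom x) = D.ρ hU hV h (eqv D U hU x) :=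
  ((show Sec D U from x).ρ_ap hU hV le_rfl h).symm

/-- The graded `𝒮`-module. -/
def gr : GrModule 𝒮 where
  mod := amod D
  deg U hU d := (D.deg U hU d).comap (eqv D U hU).toAddMonoidHom
  decomp U hU := decompSub (D.deg U hU) (eqv D U hU).toAddMonoidHom (eqv D U hU).injective fun _ _ =>
    ⟨(eqv D U hU).symm _, (eqv D U hU).apply_symm_apply _⟩
  gradedSMul U hU := ⟨fun {i j a m} ha hm => by
    change eqv D U hU (a • m) ∈ D.deg U hU (i +ᵥ j)
    rw [eqv_smul]
    exact (D.gsmul U hU).smul_mem ha hm⟩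
  map_mem {U V} hU hV i d m hm := by
    change eqv D V hV (((amod D).val.map (homOfLE i).op).hom m) ∈ D.deg V hV d
    rw [eqv_res D U V hU hV i]
    exact D.ρ_mem hU hV i hm

theorem isQCoh_gr : Coh.IsQCoh ((AMod.toOS 𝒮.toQCAlg).obj (gr D).mod) := by
  refine Groth.Agent.Ega1.QCohLoc.isQCoh_of_isLocOnAffines _ fun U hU r => ⟨fun s => ?_, fun t ht => ?_⟩
  · let s1 : (amod D).val.obj (op (S.basicOpen r)) := s
    obtain ⟨n, m, hm⟩ := D.loc_surj hU r (eqv D _ (hU.basicOpen r) s1)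
    refine ⟨n, (eqv D U hU).symm m, ?_⟩
    refine (eqv D _ (hU.basicOpen r)).injective ?_
    refine (eqv_res D U _ hU (hU.basicOpen r) (S.basicOpen_le r) _).trans ?_
    rw [AddEquiv.apply_symm_apply, hm]
    refine Eq.trans ?_ (eqv_smul D _ (hU.basicOpen r)
      ((𝒮.str.app (op (S.basicOpen r))).hom (((S.presheaf.map (homOfLE (S.basicOpen_le r)).op).hom r) ^ n)) s1).symm
    congr 1
    rw [map_pow]
    congr 1
    exact sres_sr (S.basicOpen_le r) r
  · let t1 : (amod D).val.obj (op U) := t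
    obtain ⟨n, hn⟩ := D.loc_inj hU r (eqv D U hU t1) (by
      rw [← eqv_res]
      exact (congrArg (eqv D _ (hU.basicOpen r)) ht).trans (map_zero _))
    refine ⟨n, (eqv D U hU).injective ?_⟩
    refine (eqv_smul D U hU ((𝒮.str.app (op U)).hom (r ^ n)) t1).trans ?_
    rw [map_pow, hn]
    exact (map_zero (eqv D U hU)).symm

/-- THE NODE: the data on the affine opens glue to a graded `𝒮`-module. -/
theorem exists_glued : D.Glued :=
  ⟨gr D, eqv D, ⟨eqv_smul D, eqv_res D, fun _ _ _ _ => Iff.rfl, isQCoh_gr D⟩⟩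

end K43.AffGrMod
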