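import Groth.Agent.EGA2.K31.GrTF
import Groth.Agent.EGA2.K31.RelTilde

/-!
# Surjectivity of `M~ → N~` from surjectivity up to powers, and finitely many elements spanning `M~`

* `map_locally_surjective_pow`: `u~` is locally surjective if every homogeneous `m'` has `f ^ l m'` in the image, for
  all `f` of degree one;
* `epi_of_pow`: the relative version;
* `exists_finset`: if the sections of `M~` over `D_+(f)` are finitely generated, there are finitely many homogeneous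
  elements of `M` such that every homogeneous `m` has `f ^ l m` in their span.
-/

set_option autoImplicit false
set_option linter.unusedSectionVars false
universe u

open CategoryTheory CategoryTheory.Limits AlgebraicGeometry TopologicalSpace Opposite TopCat
open scoped HomogeneousIdeal

noncomputable section

namespace K43.GrPow

open K31.GrSect K31.GrFracs K31.GrHom K31.GrTF

section alg

open Groth.Agent.Ega1.QCohLoc

variable {A σ : Type u} [CommRing A] [SetLike σ A] [AddSubgroupClass σ A] {𝒜 : ℕ → σ} [GradedRing 𝒜]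
variable {M τ : Type u} [AddCommGroup M] [Module A M] [SetLike τ M] [AddSubgroupClass τ M] {ℳ : ℕ → τ}
variable [SetLike.GradedSMul 𝒜 ℳ] [DirectSum.Decomposition ℳ]
variable {N τ' : Type u} [AddCommGroup N] [Module A N] [SetLike τ' N] [AddSubgroupClass τ' N] {𝒩 : ℕ → τ'}
  [SetLike.GradedSMul 𝒜 𝒩] [DirectSum.Decomposition 𝒩]
variable (u : M →ₗ[A] N) (hu : ∀ (i : ℕ) (m : M), m ∈ ℳ i → u m ∈ 𝒩 i) (n : ℤ)

theorem map_locally_surjective_pow (hcov : ∀ x : ProjectiveSpectrum 𝒜, ∃ f ∈ 𝒜 1, f ∉ x.asHomogeneousIdeal)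
    (hsurj : ∀ f ∈ 𝒜 1, ∀ (i : ℕ), ∀ m' ∈ 𝒩 i, ∃ (l : ℕ), ∃ m ∈ ℳ (l + i), u m = f ^ l • m')
    {U : (Proj 𝒜).Opens} (t : Γ(GrMod.tilde 𝒜 𝒩 n, U)) (x : ProjectiveSpectrum 𝒜) (hx : x ∈ U) :
    ∃ (V : (Proj 𝒜).Opens) (h : V ≤ U) (s : Γ(GrMod.tilde 𝒜 ℳ n, V)), x ∈ V ∧
      (GrMod.map 𝒜 u hu n).app V s = res _ h t := by
  obtain ⟨V, hVU, e, g, m', hg, hV, hm', he, hxV, -, heq⟩ := exists_gfrac t x hx
  obtain ⟨f, hf, hfx⟩ := hcov x
  rcases mem_zdeg_iff.mp hm' with ⟨i, hi, him⟩ | h0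
  · obtain ⟨l, m, hm, hmu⟩ := hsurj f hf i m' him
    have hm1 : m ∈ zdeg ℳ (((l * 1 + e : ℕ) : ℤ) + n) := mem_zdeg_of_eq (by push_cast; omega) hm
    have hV1 : V ⊓ Proj.basicOpen 𝒜 f ≤ V := inf_le_left
    refine ⟨V ⊓ Proj.basicOpen 𝒜 f, hV1.trans hVU, gfrac n (V ⊓ Proj.basicOpen 𝒜 f)
      (SetLike.mul_mem_graded (pow_mem' hf l) hg)
      (((NV.of_le (inf_le_right : V ⊓ Proj.basicOpen 𝒜 f ≤ _)).pow l).mul (hV.mono hV1)) hm1, ⟨hxV, hfx⟩, ?_⟩
    rw [map_gfrac]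
    have h2 : res (GrMod.tilde 𝒜 𝒩 n) (hV1.trans hVU) t =
        res (GrMod.tilde 𝒜 𝒩 n) hV1 (res (GrMod.tilde 𝒜 𝒩 n) hVU t) := by rw [res_res]
    rw [h2, heq, res_gfrac]
    refine gfrac_congr ?_
    rw [hmu, mul_comm, mul_smul]
  · refine ⟨V, hVU, 0, hxV, ?_⟩
    rw [map_zero, heq]
    refine gval_ext fun y => ?_
    rw [gval_gfrac, gval_zero, h0]
    exact (zero_mk' y.1 _).symm

/-- Equality of the sections `m / f ^ l = m' / f ^ l'` over `D_+(f)`. -/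
theorem exists_pow_of_fsec_eq {f : A} (hf : f ∈ 𝒜 1) {l l' : ℕ} {m m' : M} (hm : m ∈ ℳ l) (hm' : m' ∈ ℳ l')
    (h : fsec hf l hm = fsec hf l' hm') : ∃ N : ℕ, f ^ N • f ^ l' • m = f ^ N • f ^ l • m' := by
  have h1 : f ^ l' • m ∈ ℳ (l' + l) := by
    have := smul_mem_add 𝒜 (pow_mem' hf l') hm
    rwa [mul_one] at this
  have h2 : f ^ l • m' ∈ ℳ (l' + l) := by
    have := smul_mem_add 𝒜 (pow_mem' hf l) hm'
    rwa [mul_one, add_comm] at this
  obtain ⟨N, hN⟩ := exists_pow_smul_eq_zero 𝒜 (ℳ := ℳ) one_pos hf (k := ((l' + l : ℕ) : ℤ))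
    (m := f ^ l' • m - f ^ l • m') (sub_mem h1 h2) fun x hx => by
      have h3 : gval (fsec hf l hm) ⟨x, hx⟩ = gval (fsec hf l' hm') ⟨x, hx⟩ := by rw [h]
      obtain ⟨a, ha, h4⟩ := exists_of_mk_eq h3
      exact ⟨a, ha, h4⟩
  refine ⟨N, ?_⟩
  rw [smul_sub, sub_eq_zero] at hN
  exact hN

/-- Finitely many elements span `M` up to powers of `f`. -/
theorem exists_finset {f : A} (hf : f ∈ 𝒜 1)
    (hfin : Module.Finite Γ(Proj 𝒜, Proj.basicOpen 𝒜 f) Γ(GrMod.tilde 𝒜 ℳ 0, Proj.basicOpen 𝒜 f)) :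
    ∃ T : Finset M, ∀ (i : ℕ) (m : M), m ∈ ℳ i → ∃ l : ℕ, f ^ l • m ∈ Submodule.span A (T : Set M) := by
  classical
  obtain ⟨S, hS⟩ := hfin.fg_top
  have h1 : ∀ s ∈ S, ∃ (k : ℕ) (m : M) (hm : m ∈ ℳ k), s = fsec hf k hm := by
    intro s _
    obtain ⟨k, m, hm, hV, rfl⟩ := exists_gfrac_basicOpen 0 one_pos hf rfl s
    exact ⟨k, m, mem_of_mem_zdeg (by simp) hm, rfl⟩
  choose! k m hm hs using h1
  refine ⟨S.image m, fun i m₀ hm₀ => ?_⟩
  have h2 : ∀ s ∈ Submodule.span Γ(Proj 𝒜, Proj.basicOpen 𝒜 f) (S : Set Γ(GrMod.tilde 𝒜 ℳ 0, Proj.basicOpen 𝒜 f)),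
      ∃ (l : ℕ) (m' : M) (hm' : m' ∈ ℳ l), m' ∈ Submodule.span A ((S.image m : Finset M) : Set M) ∧
        s = fsec hf l hm' := by
    intro s hs'
    induction hs' using Submodule.span_induction with
    | mem s hs' =>
      exact ⟨k s, m s, hm s hs', Submodule.subset_span (Finset.mem_coe.mpr (Finset.mem_image_of_mem m hs')), hs s hs'⟩
    | zero => exact ⟨0, 0, zero_mem _, zero_mem _, (fsec_zero hf 0).symm⟩
    | add s s' _ _ h h' =>
      obtain ⟨l, a, ha, haT, rfl⟩ := h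
      obtain ⟨l', a', ha', haT', rfl⟩ := h'
      have e1 : f ^ l' • a ∈ ℳ (l' + l) := by
        have := smul_mem_add 𝒜 (pow_mem' hf l') ha
        rwa [mul_one] at this
      have e2 : f ^ l • a' ∈ ℳ (l' + l) := by
        have := smul_mem_add 𝒜 (pow_mem' hf l) ha'
        rwa [mul_one, add_comm] at this
      refine ⟨l' + l, f ^ l' • a + f ^ l • a', add_mem e1 e2,
        add_mem (Submodule.smul_mem _ _ haT) (Submodule.smul_mem _ _ haT'), ?_⟩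
      rw [fsec_add hf _ e1 e2]
      congr 1
      · refine fsec_congr hf ?_
        rw [smul_smul, ← pow_add, add_comm]
      · refine fsec_congr hf ?_
        rw [smul_smul, ← pow_add]
    | smul c s _ h =>
      obtain ⟨l, a, ha, haT, rfl⟩ := h
      obtain ⟨N, b, hb, hV, rfl⟩ := exists_ofrac_basicOpen one_pos hf rfl c
      have hb' : b ∈ 𝒜 N := by rwa [mul_one] at hb
      refine ⟨N + l, b • a, smul_mem_add 𝒜 hb' ha, Submodule.smul_mem _ _ haT, ?_⟩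
      exact ofrac_smul_fsec hf hb ha (smul_mem_add 𝒜 hb' ha)
  obtain ⟨l, m', hm', hmT, h3⟩ := h2 (fsec hf i hm₀) (by rw [hS]; trivial)
  obtain ⟨N, hN⟩ := exists_pow_of_fsec_eq hf hm₀ hm' h3
  refine ⟨N + l, ?_⟩
  rw [pow_add, mul_smul, hN]
  exact Submodule.smul_mem _ _ (Submodule.smul_mem _ _ hmT)

end alg

section rel

open RelProj K34.OpenMap K40.RelSec K35.RelProjBasic K31.RelTilde
open Groth.Agent.Fdesc.LocGen hiding sec res_sec

variable {Y P : Scheme.{u}} {𝒮 : RelProj.QCGrAlg Y} {p : P ⟶ Y}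
  {chart : ∀ (U : Y.Opens) (hU : IsAffineOpen U), (((p ⁻¹ᵁ U : P.Opens) : Scheme.{u}) ≅ Proj (𝒮.deg U hU))}
variable {ℳ 𝒩 : GrModule 𝒮} {n : ℤ} {F : P.Modules}
  {lam : ∀ (U : Y.Opens) (hU : IsAffineOpen U),
    F ⟶ (Scheme.Modules.pushforward (emb p chart U hU)).obj (GrMod.tilde (𝒮.deg U hU) (ℳ.deg U hU) n)}
  {G : P.Modules}
  {lam' : ∀ (U : Y.Opens) (hU : IsAffineOpen U),
    G ⟶ (Scheme.Modules.pushforward (emb p chart U hU)).obj (GrMod.tilde (𝒮.deg U hU) (𝒩.deg U hU) n)}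

theorem epi_of_pow (hF : IsRelTilde 𝒮 p chart ℳ n F lam) (hG : IsRelTilde 𝒮 p chart 𝒩 n G lam')
    (hgen : 𝒮.IsGenDegOne) {u : ℳ.mod ⟶ 𝒩.mod} {hu : IsGrModHom u} {ut : F ⟶ G} (h : Ind u hu lam lam' ut)
    (hsurj : ∀ (U : Y.Opens) (hU : IsAffineOpen U), ∀ f ∈ 𝒮.deg U hU 1, ∀ (i : ℕ), ∀ m' ∈ 𝒩.deg U hU i,
      ∃ (l : ℕ), ∃ m ∈ ℳ.deg U hU (l + i), (u.val.app (op U)).hom m = f ^ l • m') : Epi ut := by
  refine Groth.Agent.Sga67.Sec.epi_of_locally_surjective ut fun W t x hx => ?_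
  obtain ⟨U, hU, y, hy, hxW, hyW⟩ := exists_chart (chart := chart) W x hx
  let j := emb p chart U hU
  obtain ⟨V, hV, s, hyV, hs⟩ := map_locally_surjective_pow (lin u U) (hu U hU) n
    (fun x => exists_one_notMem (hgen U hU) x)
    (fun f hf k m hm => hsurj U hU f hf k m hm) (sec j (lam' U hU) _ (res G inf_le_left t)) y hyW
  obtain ⟨s', hs'⟩ := exists_sec_image hF U hU s
  have hVW : j ''ᵁ V ≤ W ⊓ p ⁻¹ᵁ U := (j.image_mono hV).trans (j.image_preimage_le _)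
  refine ⟨j ''ᵁ V, hVW.trans inf_le_left, ⟨y, hyV, hy⟩, s', ?_⟩
  refine (hlam hG U hU _ (j.image_le_opensRange V)).1 ?_
  refine (h.sec U hU _ s').trans ?_
  rw [hs']
  have h2 := Groth.Agent.Fdesc.LocGen.app_res (GrMod.map (𝒮.deg U hU) (lin u U) (hu U hU) n) (j.preimage_image_eq V).le s
  refine h2.trans ?_
  rw [hs]
  refine Eq.trans ?_ (res_sec j (lam' U hU) (hVW.trans inf_le_left) t)
  change res _ _ (res _ hV (sec j (lam' U hU) (W ⊓ p ⁻¹ᵁ U) (res G inf_le_left t))) = _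
  rw [← res_sec, res_res, res_res]

end rel

end K43.GrPow
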