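import Groth.Agent.EGA2.K43.SubDat
import Groth.Agent.EGA2.K43.GrPow
import Groth.Agent.EGA2.K34.FtSub

/-!
# Graded submodules generated by a finite type submodule over the structure sheaf

`NE j`: the `𝒮(U)`-submodules generated by the homogeneous components of the sections of `E ⊆ ℳ`; for `E`
quasi-coherent of finite type they form a `Dat` with finitely generated members.  `Q D U`: multiplication by powers of
degree-one elements sends `ℳ(U)` into `D`; it is an affine-local property.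
-/

set_option autoImplicit false
set_option linter.unusedSectionVars false
universe u

open CategoryTheory CategoryTheory.Limits AlgebraicGeometry TopologicalSpace Opposite TopCat

noncomputable section

namespace K43.SubDat

open K39.GrSect K39.GrFrac K39.GrComap K39.RelBase
open Groth.Agent.Ega1.QCohLoc (isLocAt_of_isQCoh)

section alg

variable {A σ : Type u} [CommRing A] [SetLike σ A] [AddSubgroupClass σ A] {𝒜 : ℕ → σ} [GradedRing 𝒜]
variable {M τ : Type u} [AddCommGroup M] [Module A M] [SetLike τ M] [AddSubgroupClass τ M] {ℳ : ℕ → τ}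
variable [SetLike.GradedSMul 𝒜 ℳ] [DirectSum.Decomposition ℳ]

variable (𝒜) in
theorem decompose_smul_zero {a : A} (ha : a ∈ 𝒜 0) (m : M) (d : ℕ) :
    (DirectSum.decompose ℳ (a • m) d : M) = a • (DirectSum.decompose ℳ m d : M) := by
  classical
  induction m using DirectSum.Decomposition.inductionOn ℳ with
  | zero => simp
  | @homogeneous i m =>
    have h0 : a • (m : M) ∈ ℳ i := by
      have := smul_mem_add 𝒜 ha m.2
      rwa [zero_add] at this
    by_cases h : i = d
    · subst h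
      rw [DirectSum.decompose_of_mem_same ℳ h0, DirectSum.decompose_of_mem_same ℳ m.2]
    · rw [DirectSum.decompose_of_mem_ne ℳ h0 h, DirectSum.decompose_of_mem_ne ℳ m.2 h, smul_zero]
  | add m m' h h' =>
    rw [smul_add, DirectSum.decompose_add, DirectSum.add_apply, AddMemClass.coe_add, h, h', DirectSum.decompose_add,
      DirectSum.add_apply, AddMemClass.coe_add, smul_add]

variable (𝒜) in
include 𝒜 in
/-- The submodule spanned by homogeneous elements is stable under the projections. -/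
theorem decompose_mem_span {S : Set M} (hS : ∀ s ∈ S, ∃ i, s ∈ ℳ i) {m : M} (hm : m ∈ Submodule.span A S) :
    ∀ d : ℕ, (DirectSum.decompose ℳ m d : M) ∈ Submodule.span A S := by
  classical
  induction hm using Submodule.span_induction with
  | mem m hm =>
    intro d
    obtain ⟨i, hi⟩ := hS m hm
    by_cases h : i = d
    · subst h
      rw [DirectSum.decompose_of_mem_same ℳ hi]
      exact Submodule.subset_span hm
    · rw [DirectSum.decompose_of_mem_ne ℳ hi h]
      exact zero_mem _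
  | zero =>
    intro d
    rw [DirectSum.decompose_zero]
    exact zero_mem _
  | add m m' _ _ h h' =>
    intro d
    rw [DirectSum.decompose_add, DirectSum.add_apply, AddMemClass.coe_add]
    exact add_mem (h d) (h' d)
  | smul a m _ h =>
    intro d
    have h1 : (DirectSum.decompose ℳ (a • m) d : M) =
        ∑ i ∈ (DirectSum.decompose ℳ m).support,
          (DirectSum.decompose ℳ (a • (DirectSum.decompose ℳ m i : M)) d : M) := by
      conv_lhs => rw [← DirectSum.sum_support_decompose ℳ m, Finset.smul_sum, DirectSum.decompose_sum,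
        DFinsupp.finsetSum_apply, AddSubmonoidClass.coe_finsetSum]
    rw [h1]
    refine sum_mem fun i _ => ?_
    by_cases hid : i ≤ d
    · obtain ⟨k, rfl⟩ := Nat.exists_eq_add_of_le' hid
      rw [decompose_smul_of_mem 𝒜 a (SetLike.coe_mem _) k]
      exact Submodule.smul_mem _ _ (h i)
    · rw [K31.GrTF.decompose_smul_of_lt 𝒜 a (SetLike.coe_mem _) (by omega)]
      exact zero_mem _

end alg

variable {Y : Scheme.{u}} {𝒮 : RelProj.QCGrAlg Y} (ℳ : RelProj.GrModule 𝒮) {E : Y.Modules}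
  (j : E ⟶ (AMod.toOS 𝒮.toQCAlg).obj ℳ.mod)

/-- A section of `E` read in `ℳ`. -/
def jv (U : Y.Opens) (e : Γ(E, U)) : ℳ.mod.val.obj (op U) := j.app U e

theorem jv_add (U : Y.Opens) (e e' : Γ(E, U)) : jv ℳ j U (e + e') = jv ℳ j U e + jv ℳ j U e' :=
  map_add (j.app U).hom e e'

theorem jv_zero (U : Y.Opens) : jv ℳ j U 0 = 0 := map_zero (j.app U).hom

theorem jv_smul (U : Y.Opens) (r : Γ(Y, U)) (e : Γ(E, U)) :
    jv ℳ j U (r • e) = (sr U r : 𝒮.presheaf.obj (op U)) • jv ℳ j U e :=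
  Scheme.Modules.Hom.app_smul j r e

theorem jv_res {U V : Y.Opens} (hU : IsAffineOpen U) (hV : IsAffineOpen V) (i : V ≤ U) (e : Γ(E, U)) :
    jv ℳ j V (Groth.Agent.Ega1.QCohLoc.res E i e) = ℳ.res hU hV i (jv ℳ j U e) :=
  Groth.Agent.Ega1.QCohLoc.res_app j i e

/-- The homogeneous components of the sections of `E`. -/
def comps (U : Y.Opens) (hU : IsAffineOpen U) : Set (ℳ.mod.val.obj (op U)) :=
  {m | ∃ (e : Γ(E, U)) (d : ℕ), m = (DirectSum.decompose (ℳ.deg U hU) (jv ℳ j U e) d : ℳ.mod.val.obj (op U))}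

/-- The `𝒮(U)`-submodule they generate. -/
def NE (U : Y.Opens) (hU : IsAffineOpen U) : Submodule (𝒮.presheaf.obj (op U)) (ℳ.mod.val.obj (op U)) :=
  Submodule.span _ (comps ℳ j U hU)

theorem jv_mem_NE (U : Y.Opens) (hU : IsAffineOpen U) (e : Γ(E, U)) : jv ℳ j U e ∈ NE ℳ j U hU := by
  classical
  rw [← DirectSum.sum_support_decompose (ℳ.deg U hU) (jv ℳ j U e)]
  exact sum_mem fun d _ => Submodule.subset_span ⟨e, d, rfl⟩

theorem NE_homog (U : Y.Opens) (hU : IsAffineOpen U) (m : ℳ.mod.val.obj (op U)) (hm : m ∈ NE ℳ j U hU) (d : ℕ) :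
    (DirectSum.decompose (ℳ.deg U hU) m d : ℳ.mod.val.obj (op U)) ∈ NE ℳ j U hU := by
  refine decompose_mem_span (𝒮.deg U hU) (ℳ := ℳ.deg U hU) ?_ hm d
  rintro s ⟨e, d, rfl⟩
  exact ⟨d, SetLike.coe_mem _⟩

theorem NE_res {U V : Y.Opens} (hU : IsAffineOpen U) (hV : IsAffineOpen V) (i : V ≤ U) (m : ℳ.mod.val.obj (op U))
    (hm : m ∈ NE ℳ j U hU) : ℳ.res hU hV i m ∈ NE ℳ j V hV := by
  induction hm using Submodule.span_induction with
  | mem m hm =>
    obtain ⟨e, d, rfl⟩ := hm
    refine Submodule.subset_span ⟨Groth.Agent.Ega1.QCohLoc.res E i e, d, ?_⟩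
    rw [jv_res ℳ j hU hV i e]
    exact map_decompose (ℳ.res_mem hU hV i) _ d
  | zero => rw [map_zero]; exact zero_mem _
  | add m m' _ _ h h' => rw [map_add]; exact add_mem h h'
  | smul a m _ h => rw [map_smulₛₗ]; exact Submodule.smul_mem _ _ h

variable {ℳ}

theorem exists_lift_NE (hE : Coh.IsQCoh E) (hℳ : Coh.IsQCoh ((AMod.toOS 𝒮.toQCAlg).obj ℳ.mod))
    (U : Y.Opens) (hU : IsAffineOpen U) (r : Γ(Y, U)) (n : ℳ.mod.val.obj (op (Y.basicOpen r)))
    (hn : n ∈ NE ℳ j (Y.basicOpen r) (hU.basicOpen r)) :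
    ∃ (k : ℕ) (m : ℳ.mod.val.obj (op U)), m ∈ NE ℳ j U hU ∧
      (𝒮.res hU (hU.basicOpen r) (Y.basicOpen_le r)) (sr U r) ^ k • n =
        ℳ.res hU (hU.basicOpen r) (Y.basicOpen_le r) m := by
  have hL := isLocHom_res ℳ hℳ U hU r
  induction hn using Submodule.span_induction with
  | mem n hn =>
    obtain ⟨e, d, rfl⟩ := hn
    obtain ⟨k, t, ht⟩ := (isLocAt_of_isQCoh hE hU r).surj e
    refine ⟨k, (DirectSum.decompose (ℳ.deg U hU) (jv ℳ j U t) d : ℳ.mod.val.obj (op U)),
      Submodule.subset_span ⟨t, d, rfl⟩, ?_⟩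
    rw [map_decompose (ℳ.res_mem hU (hU.basicOpen r) (Y.basicOpen_le r)), ← jv_res, ht, jv_smul]
    have h2 : (sr (Y.basicOpen r) (Groth.Agent.Ega1.QCohLoc.resO (Y.basicOpen_le r) r ^ k) :
        𝒮.presheaf.obj (op (Y.basicOpen r))) = (𝒮.res hU (hU.basicOpen r) (Y.basicOpen_le r)) (sr U r) ^ k := by
      rw [sr, map_pow]
      congr 1
      exact (res_sr hU (hU.basicOpen r) (Y.basicOpen_le r) r).symm
    rw [h2]
    exact (decompose_smul_zero (𝒮.deg (Y.basicOpen r) (hU.basicOpen r)) (hL.map_pow_mem k) _ d).symm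
  | zero => exact ⟨0, 0, zero_mem _, by rw [smul_zero, map_zero]⟩
  | add n n' _ _ h h' =>
    obtain ⟨k, m, hm, h1⟩ := h
    obtain ⟨k', m', hm', h1'⟩ := h'
    refine ⟨k + k', (sr U r : 𝒮.presheaf.obj (op U)) ^ k' • m + (sr U r : 𝒮.presheaf.obj (op U)) ^ k • m',
      add_mem (Submodule.smul_mem _ _ hm) (Submodule.smul_mem _ _ hm'), ?_⟩
    rw [map_add, map_smulₛₗ, map_smulₛₗ, ← h1, ← h1', smul_add, smul_smul, smul_smul]
    congr 1
    · congr 1
      rw [map_pow, add_comm, pow_add]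
      rfl
    · congr 1
      rw [map_pow, pow_add]
      rfl
  | smul b n _ h =>
    obtain ⟨k, m, hm, h1⟩ := h
    obtain ⟨l, a, ha⟩ := hL.surj b
    refine ⟨l + k, a • m, Submodule.smul_mem _ _ hm, ?_⟩
    rw [map_smulₛₗ, ← h1, smul_smul, smul_smul]
    congr 1
    have h3 : (𝒮.res hU (hU.basicOpen r) (Y.basicOpen_le r)).toRingHom a =
        (𝒮.res hU (hU.basicOpen r) (Y.basicOpen_le r)) ((𝒮.str.app (op U)).hom r) ^ l * b := ha.symm
    rw [h3, pow_add]
    ring

/-- The datum generated by `E`. -/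
def datE (hE : Coh.IsQCoh E) (hℳ : Coh.IsQCoh ((AMod.toOS 𝒮.toQCAlg).obj ℳ.mod)) : Dat ℳ where
  N U hU := NE ℳ j U hU
  homog U hU m hm d := NE_homog ℳ j U hU m hm d
  res_mem hU hV i m hm := NE_res ℳ j hU hV i m hm
  lift U hU r m hm := by
    have hL := isLocHom_res ℳ hℳ U hU r
    obtain ⟨k, m', hm', h1⟩ := exists_lift_NE j hE hℳ U hU r _ hm
    obtain ⟨l, hl⟩ := hL.injM ((sr U r : 𝒮.presheaf.obj (op U)) ^ k • m - m') (by
      rw [map_sub, map_smulₛₗ, ← h1, sub_eq_zero]
      congr 1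
      exact map_pow (𝒮.res hU (hU.basicOpen r) (Y.basicOpen_le r)) (sr U r) k)
    refine ⟨l + k, ?_⟩
    rw [smul_sub, smul_smul, ← pow_add, sub_eq_zero] at hl
    rw [hl]
    exact Submodule.smul_mem _ _ hm'

end K43.SubDat
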