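import Groth.Agent.EGA2.K43.FtDat
import Groth.Agent.S8321
import Groth.Agent.CohqB.FiniteType2

/-!
# Every finite type module `ℳ~` comes from a graded submodule of finite type
-/

set_option autoImplicit false
set_option linter.unusedSectionVars false
universe u

open CategoryTheory CategoryTheory.Limits AlgebraicGeometry TopologicalSpace Opposite TopCat

noncomputable section

namespace K43.SubDat

open K39.GrSect K39.GrFrac K39.GrComap K39.RelBase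
open Groth.Agent.Ega1.QCohLoc (isLocAt_of_isQCoh)

variable {Y : Scheme.{u}} {𝒮 : RelProj.QCGrAlg Y}

section fg

variable (ℳ : RelProj.GrModule 𝒮) {E : Y.Modules} (j : E ⟶ (AMod.toOS 𝒮.toQCAlg).obj ℳ.mod)

theorem NE_fg (U : Y.Opens) (hU : IsAffineOpen U) (hfin : Module.Finite Γ(Y, U) Γ(E, U)) : (NE ℳ j U hU).FG := by
  classical
  obtain ⟨T, hT⟩ := hfin.fg_top
  let S : Finset (ℳ.mod.val.obj (op U)) := T.biUnion fun e =>
    (DirectSum.decompose (ℳ.deg U hU) (jv ℳ j U e)).support.image fun d =>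
      (DirectSum.decompose (ℳ.deg U hU) (jv ℳ j U e) d : ℳ.mod.val.obj (op U))
  refine ⟨S, le_antisymm ?_ ?_⟩
  · refine Submodule.span_le.mpr fun m hm => ?_
    obtain ⟨e, -, he⟩ := Finset.mem_biUnion.mp (Finset.mem_coe.mp hm)
    obtain ⟨d, -, rfl⟩ := Finset.mem_image.mp he
    exact Submodule.subset_span ⟨e, d, rfl⟩
  · refine Submodule.span_le.mpr ?_
    rintro m ⟨e, d, rfl⟩
    have he : e ∈ Submodule.span Γ(Y, U) (T : Set Γ(E, U)) := by rw [hT]; trivial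
    induction he using Submodule.span_induction with
    | mem e he =>
      by_cases h : d ∈ (DirectSum.decompose (ℳ.deg U hU) (jv ℳ j U e)).support
      · refine Submodule.subset_span (Finset.mem_coe.mpr (Finset.mem_biUnion.mpr ⟨e, he, ?_⟩))
        exact Finset.mem_image.mpr ⟨d, h, rfl⟩
      · rw [DFinsupp.notMem_support_iff.mp h]
        exact zero_mem _
    | zero =>
      rw [jv_zero, DirectSum.decompose_zero]
      exact zero_mem _
    | add e e' _ _ h h' =>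
      rw [jv_add, DirectSum.decompose_add, DirectSum.add_apply, AddMemClass.coe_add]
      exact add_mem h h'
    | smul r e _ h =>
      rw [jv_smul]
      have h1 := decompose_smul_zero (𝒮.deg U hU) (ℳ := ℳ.deg U hU) (𝒮.str_mem U hU r) (jv ℳ j U e) d
      rw [SetLike.mem_coe] at h ⊢
      exact h1 ▸ Submodule.smul_mem _ _ h

end fg

variable {ℳ : RelProj.GrModule 𝒮} (D : Dat ℳ)

theorem Dat.finite_toGr (U : Y.Opens) (hU : IsAffineOpen U) (h : (D.N U hU).FG) :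
    Module.Finite (𝒮.presheaf.obj (op U)) (D.toGr.mod.val.obj (op U)) := by
  have h1 : Module.Finite (𝒮.presheaf.obj (op U)) (D.N U hU) := Module.Finite.iff_fg.mpr h
  let f : D.N U hU →ₗ[𝒮.presheaf.obj (op U)] D.toGr.mod.val.obj (op U) :=
    { toFun := fun m => (⟨m.1, (D.mem_psub_affine hU m.1).mpr m.2⟩ : D.psub.obj (op U))
      map_add' := fun _ _ => rfl
      map_smul' := fun _ _ => rfl }
  refine Module.Finite.of_surjective f fun m => ?_
  exact ⟨⟨(show D.psub.obj (op U) from m).1, D.incl_mem hU m⟩, rfl⟩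

/-- Powers of the degree-one elements send `ℳ(U)` into the datum. -/
def Q (U : Y.Opens) (hU : IsAffineOpen U) : Prop :=
  ∀ f ∈ 𝒮.deg U hU 1, ∀ m : ℳ.mod.val.obj (op U), ∃ l : ℕ, f ^ l • m ∈ D.N U hU

theorem pow_mem_of_le {U : Y.Opens} {hU : IsAffineOpen U} {f : 𝒮.presheaf.obj (op U)} {m : ℳ.mod.val.obj (op U)}
    {l L : ℕ} (hl : l ≤ L) (h : f ^ l • m ∈ D.N U hU) : f ^ L • m ∈ D.N U hU := by
  obtain ⟨k, rfl⟩ := Nat.exists_eq_add_of_le' hl
  rw [pow_add, mul_smul]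
  exact Submodule.smul_mem _ _ h

theorem Q.basicOpen (hℳ : Coh.IsQCoh ((AMod.toOS 𝒮.toQCAlg).obj ℳ.mod)) {U : Y.Opens} {hU : IsAffineOpen U}
    (h : Q D U hU) (r : Γ(Y, U)) : Q D (Y.basicOpen r) (hU.basicOpen r) := by
  intro f hf m
  have hL := isLocHom_res ℳ hℳ U hU r
  obtain ⟨k, a, ha, hk⟩ := hL.exists_of_mem hf
  obtain ⟨k', m', hm'⟩ := hL.surjM m
  obtain ⟨l, hl⟩ := h a ha m'
  have h1 := D.res_mem hU (hU.basicOpen r) (Y.basicOpen_le r) _ hl
  rw [map_smulₛₗ, ← hm'] at h1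
  have h2 : (𝒮.res hU (hU.basicOpen r) (Y.basicOpen_le r)).toRingHom (a ^ l) =
      ((𝒮.res hU (hU.basicOpen r) (Y.basicOpen_le r)) ((𝒮.str.app (op U)).hom r) ^ k * f) ^ l := by
    rw [hk, map_pow]
    rfl
  rw [h2, smul_smul, mul_pow, mul_assoc, mul_comm (f ^ l), ← mul_assoc, mul_smul, ← pow_mul, ← pow_add] at h1
  refine ⟨l, ?_⟩
  obtain ⟨w, hw⟩ := hL.unit.pow (k * l + k')
  rw [← hw] at h1
  have h3 := Submodule.smul_mem _ (↑(w⁻¹) : 𝒮.presheaf.obj (op (Y.basicOpen r))) h1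
  rwa [smul_smul, Units.inv_mul, one_smul] at h3

theorem Q.of_span {U : Y.Opens} {hU : IsAffineOpen U} (s : Finset Γ(Y, U))
    (hs : Ideal.span (s : Set Γ(Y, U)) = ⊤) (h : ∀ r : s, Q D (Y.basicOpen r.1) (hU.basicOpen r.1)) : Q D U hU := by
  intro f hf m
  have h1 : ∀ r : s, ∃ l : ℕ, (𝒮.res hU (hU.basicOpen r.1) (Y.basicOpen_le r.1) f) ^ l •
      ℳ.res hU (hU.basicOpen r.1) (Y.basicOpen_le r.1) m ∈ D.N _ (hU.basicOpen r.1) := fun r =>
    h r _ (𝒮.map_mem hU (hU.basicOpen r.1) (Y.basicOpen_le r.1) hf) _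
  choose l hl using h1
  refine ⟨Finset.univ.sup l, D.mem_of_local hU _ fun x hx => ?_⟩
  have h2 : U ≤ ⨆ r : (s : Set Γ(Y, U)), Y.basicOpen (r : Γ(Y, U)) := by
    rw [hU.self_le_iSup_basicOpen_iff]
    exact hs
  obtain ⟨r, hr⟩ := Opens.mem_iSup.mp (h2 hx)
  refine ⟨r.1, hr, ?_⟩
  have h3 := pow_mem_of_le D (Finset.le_sup (f := l) (Finset.mem_univ (⟨r.1, r.2⟩ : s))) (hl ⟨r.1, r.2⟩)
  rw [map_smulₛₗ, map_pow]
  exact h3

theorem Q.of_cover (hℳ : Coh.IsQCoh ((AMod.toOS 𝒮.toQCAlg).obj ℳ.mod)) {ι : Type*} (W : ι → Y.affineOpens)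
    (hW : (⨆ i, W i : Y.Opens) = ⊤) (h : ∀ i, Q D (W i).1 (W i).2) (U : Y.Opens) (hU : IsAffineOpen U) : Q D U hU :=
  of_affine_open_cover (P := fun V : Y.affineOpens => Q D V.1 V.2) W hW ⟨U, hU⟩
    (fun _ r hV => hV.basicOpen D hℳ r) (fun _ s hs hV => Q.of_span D s hs fun r => hV r) h

/-- `Q` from finitely many degree-one elements spanning the degree-one part. -/
theorem Q.of_finset {U : Y.Opens} {hU : IsAffineOpen U} (T : Finset (𝒮.presheaf.obj (op U)))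
    (hT : ∀ x ∈ 𝒮.deg U hU 1, x ∈ Ideal.span (T : Set (𝒮.presheaf.obj (op U))))
    (h : ∀ t ∈ T, ∀ (i : ℕ) (m : ℳ.mod.val.obj (op U)), m ∈ ℳ.deg U hU i → ∃ l : ℕ, t ^ l • m ∈ D.N U hU) :
    Q D U hU := by
  classical
  have h1 : ∀ f ∈ 𝒮.deg U hU 1, ∀ (i : ℕ) (m : ℳ.mod.val.obj (op U)), m ∈ ℳ.deg U hU i →
      ∃ l : ℕ, f ^ l • m ∈ D.N U hU := by
    intro f hf i m hm
    have h2 : Ideal.span (T : Set (𝒮.presheaf.obj (op U))) ≤ ((D.N U hU).colon {m}).radical := by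
      rw [Ideal.span_le]
      intro t ht
      obtain ⟨l, hl⟩ := h t ht i m hm
      exact ⟨l, Submodule.mem_colon.mpr fun p hp => by rw [Set.mem_singleton_iff.mp hp]; exact hl⟩
    obtain ⟨l, hl⟩ := h2 (hT f hf)
    exact ⟨l, Submodule.mem_colon.mp hl m rfl⟩
  intro f hf m
  choose! l hl using fun i => h1 f hf i (DirectSum.decompose (ℳ.deg U hU) m i) (SetLike.coe_mem _)
  refine ⟨(DirectSum.decompose (ℳ.deg U hU) m).support.sup l, ?_⟩
  have h3 : f ^ (DirectSum.decompose (ℳ.deg U hU) m).support.sup l • m =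
      ∑ i ∈ (DirectSum.decompose (ℳ.deg U hU) m).support, f ^ (DirectSum.decompose (ℳ.deg U hU) m).support.sup l •
        (DirectSum.decompose (ℳ.deg U hU) m i : ℳ.mod.val.obj (op U)) := by
    rw [← Finset.smul_sum, DirectSum.sum_support_decompose (ℳ.deg U hU) m]
  rw [h3]
  exact sum_mem fun i hi => pow_mem_of_le D (Finset.le_sup (f := l) hi) (hl i)

section main

open RelProj K31.RelTilde K31.GrTF

variable {P : Scheme.{u}} {p : P ⟶ Y}
  {chart : ∀ (U : Y.Opens) (hU : IsAffineOpen U), (((p ⁻¹ᵁ U : P.Opens) : Scheme.{u}) ≅ Proj (𝒮.deg U hU))}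
  {F : P.Modules}
  {lam : ∀ (U : Y.Opens) (hU : IsAffineOpen U),
    F ⟶ (Scheme.Modules.pushforward (emb p chart U hU)).obj (GrMod.tilde (𝒮.deg U hU) (ℳ.deg U hU) 0)}

/-- The sections of `ℳ(U)~` over `D_+(f)` are finitely generated. -/
theorem finite_basicOpen (hF : IsRelTilde 𝒮 p chart ℳ 0 F lam) (hFt : CohB1.IsFT F) (U : Y.Opens)
    (hU : IsAffineOpen U) {f : 𝒮.presheaf.obj (op U)} (hf : f ∈ 𝒮.deg U hU 1) :
    Module.Finite Γ(Proj (𝒮.deg U hU), Proj.basicOpen (𝒮.deg U hU) f)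
      Γ(GrMod.tilde (𝒮.deg U hU) (ℳ.deg U hU) 0, Proj.basicOpen (𝒮.deg U hU) f) := by
  have h1 : CohB1.IsFT (F.restrict (emb p chart U hU)) :=
    Groth.Agent.CohqB.FiniteType.IsFT.restrict hFt (emb p chart U hU)
  have h2 : CohB1.IsFT (GrMod.tilde (𝒮.deg U hU) (ℳ.deg U hU) 0) :=
    Groth.Agent.CohqB.FiniteType.IsFT.of_iso h1 (restrictEmb hF U hU)
  have h3 : Coh.IsQCoh (GrMod.tilde (𝒮.deg U hU) (ℳ.deg U hU) 0) := K31.GrFracs.isQCoh_tilde 0
  exact Groth.Agent.CohqB.FiniteType2.finite_sections_of_isFT _ h2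
    (Proj.isAffineOpen_basicOpen (𝒮.deg U hU) f hf one_pos)

/-- Finitely many sections over `U` guarantee `Q`. -/
theorem exists_finset_Q (hF : IsRelTilde 𝒮 p chart ℳ 0 F lam) (hFt : CohB1.IsFT F) (hft : 𝒮.IsFTDeg 1)
    (U : Y.Opens) (hU : IsAffineOpen U) : ∃ T : Finset (ℳ.mod.val.obj (op U)), ∀ D : Dat ℳ,
      (∀ t ∈ T, t ∈ D.N U hU) → Q D U hU := by
  classical
  obtain ⟨B, hB, hB'⟩ := hft U hU
  have h1 : ∀ b ∈ B, ∃ T : Finset (ℳ.mod.val.obj (op U)), ∀ (i : ℕ) (m : ℳ.mod.val.obj (op U)),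
      m ∈ ℳ.deg U hU i → ∃ l : ℕ, b ^ l • m ∈ Submodule.span (𝒮.presheaf.obj (op U)) (T : Set _) := fun b hb =>
    K43.GrPow.exists_finset (hB hb) (finite_basicOpen hF hFt U hU (hB hb))
  choose! T hT using h1
  refine ⟨B.biUnion T, fun D hD => Q.of_finset D B (fun x hx => ?_) fun b hb i m hm => ?_⟩
  · obtain ⟨c, rfl⟩ := hB' x hx
    exact sum_mem fun t ht => Ideal.mul_mem_left _ _ (Ideal.subset_span ht)
  · obtain ⟨l, hl⟩ := hT b hb i m hm
    refine ⟨l, Submodule.span_le.mpr (fun t ht => ?_) hl⟩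
    exact hD t (Finset.mem_biUnion.mpr ⟨b, hb, ht⟩)

/-- From `Q` everywhere: `F` is attached to the graded submodule. -/
theorem exists_lam (hP : IsRelProj 𝒮 p chart) (hℳ : Coh.IsQCoh ((AMod.toOS 𝒮.toQCAlg).obj ℳ.mod))
    (hF : IsRelTilde 𝒮 p chart ℳ 0 F lam) (hgen : 𝒮.IsGenDegOne)
    (hQ : ∀ (U : Y.Opens) (hU : IsAffineOpen U), Q D U hU) :
    ∃ lam' : ∀ (U : Y.Opens) (hU : IsAffineOpen U),
      F ⟶ (Scheme.Modules.pushforward (emb p chart U hU)).obj (GrMod.tilde (𝒮.deg U hU) (D.toGr.deg U hU) 0),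
      IsRelTilde 𝒮 p chart D.toGr 0 F lam' := by
  obtain ⟨G, mu, hG⟩ := Groth.Agent.S8321.result 𝒮 p chart hP D.toGr (D.isQCoh hℳ) 0
  obtain ⟨ut, hut, -⟩ := existsUnique_map hP hG hF D.incl D.isGrModHom_incl
  have h1 : Mono ut := mono_of_inj hG hut ⟨0, fun U hU k _ m _ hm =>
    D.incl_injective U (hm.trans (map_zero (D.incl.val.app (op U)).hom).symm)⟩
  have h2 : Epi ut := K43.GrPow.epi_of_pow hG hF hgen hut fun U hU f hf i m' hm' => by
    obtain ⟨l, hl⟩ := hQ U hU f hf m'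
    obtain ⟨m, hm⟩ := D.exists_incl hU _ hl
    refine ⟨l, m, ?_, hm⟩
    change (D.incl.val.app (op U)).hom m ∈ ℳ.deg U hU (l + i)
    rw [hm]
    have h3 : f ^ l ∈ 𝒮.deg U hU l := by
      have := SetLike.pow_mem_graded l hf
      rwa [smul_eq_mul, mul_one] at this
    exact smul_mem_add (𝒮.deg U hU) h3 hm'
  have h3 : IsIso ut := isIso_of_mono_of_epi ut
  refine ⟨fun U hU => inv ut ≫ mu U hU, ⟨fun U hU W hW => ?_, fun U hU r W s y hy hy' => ?_⟩⟩
  · have h4 : Function.Bijective ((inv ut).app W) := by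
      have : IsIso ((inv ut).app W) := inferInstance
      exact (ConcreteCategory.isIso_iff_bijective _).mp this
    exact (hG.bijective U hU W hW).comp h4
  · exact hG.compat U hU r W ((inv ut).app W s) y hy hy'

/-- The reduction of the finite type statement to the quasi-coherent one. -/
theorem exists_finite [CompactSpace Y] [QuasiSeparatedSpace Y] (hP : IsRelProj 𝒮 p chart)
    (hℳ : Coh.IsQCoh ((AMod.toOS 𝒮.toQCAlg).obj ℳ.mod)) (hF : IsRelTilde 𝒮 p chart ℳ 0 F lam)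
    (hgen : 𝒮.IsGenDegOne) (hft : 𝒮.IsFTDeg 1) (hFt : CohB1.IsFT F) :
    ∃ (ℳ' : RelProj.GrModule 𝒮) (lam' : ∀ (U : Y.Opens) (hU : IsAffineOpen U),
      F ⟶ (Scheme.Modules.pushforward (RelProj.emb p chart U hU)).obj (GrMod.tilde (𝒮.deg U hU) (ℳ'.deg U hU) 0)),
      Coh.IsQCoh ((AMod.toOS 𝒮.toQCAlg).obj ℳ'.mod) ∧ RelProj.IsRelTilde 𝒮 p chart ℳ' 0 F lam' ∧
        ∀ (U : Y.Opens) (hU : IsAffineOpen U),
          Module.Finite (𝒮.presheaf.obj (op U)) (ℳ'.mod.val.obj (op U)) := by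
  classical
  obtain ⟨s, hs, hcov⟩ : ∃ s : Set Y.affineOpens, s.Finite ∧ (⨆ i : s, (i.1.1 : Y.Opens)) = ⊤ := by
    obtain ⟨s, hs, h⟩ := (isCompact_iff_finite_and_eq_biUnion_affineOpens (X := Y) (U := ⊤)).mp
      isCompact_univ
    exact ⟨s, hs, by rw [h, iSup_subtype']⟩
  choose T hT using fun i : s => exists_finset_Q hF hFt hft i.1.1 i.1.2
  have : Finite s := hs
  obtain ⟨E, j, hj, hE, hEf, hmem⟩ := K34.FtSub.exists_ft_sub hℳ (ι := Σ i : s, T i) (fun a => a.1.1.1)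
    (fun a => a.1.1.2) (fun a => (a.2.1 : ℳ.mod.val.obj (op a.1.1.1)))
  let D := datE j hE hℳ
  have hQ : ∀ (U : Y.Opens) (hU : IsAffineOpen U), Q D U hU := by
    refine Q.of_cover D hℳ (fun i : s => i.1) hcov fun i => hT i D fun t ht => ?_
    obtain ⟨e, he⟩ := hmem ⟨i, ⟨t, ht⟩⟩
    have h1 := jv_mem_NE ℳ j i.1.1 i.1.2 e
    have h2 : jv ℳ j i.1.1 e = t := he
    rw [h2] at h1
    exact h1
  obtain ⟨lam', hlam'⟩ := exists_lam D hP hℳ hF hgen hQ
  exact ⟨D.toGr, lam', D.isQCoh hℳ, hlam', fun U hU => D.finite_toGr U hU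
    (NE_fg ℳ j U hU (Groth.Agent.CohqB.FiniteType2.finite_sections_of_isFT E hEf hU))⟩

end main

end K43.SubDat
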