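import Groth.Agent.Ega2.ImmCrit
import Groth.Agent.Fdesc.LocGen

/-!
# Morphisms from an open subscheme to `Spec` of a subring of its ring of functions

`HImm W B`: the canonical morphism `W ⟶ Spec B` is an immersion, for `W` open in `X`, `B` a subring of `Γ(X, W)`.
It is monotone in `B`, stable under restriction to smaller opens, and `W ⟶ Spec R` attached to a ring homomorphism
`R →+* Γ(X, W)` is an immersion iff `HImm` holds for its range.
-/

set_option autoImplicit false
universe u
open CategoryTheory CategoryTheory.Limits AlgebraicGeometry TopologicalSpace Opposite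

namespace K43.HomImm

open Groth.Agent.Fdesc.LocGen

variable {X : Scheme.{u}}

/-- The morphism `W ⟶ Spec R` attached to a ring homomorphism `R →+* Γ(X, W)`. -/
noncomputable def mor (W : X.Opens) {R : Type u} [CommRing R] (ρ : R →+* Γ(X, W)) :
    (W : Scheme.{u}) ⟶ Spec (CommRingCat.of R) :=
  W.toSpecΓ ≫ Spec.map (CommRingCat.ofHom ρ)

theorem mor_comp (W : X.Opens) {R R' : Type u} [CommRing R] [CommRing R'] (τ : R →+* R') (ρ : R' →+* Γ(X, W)) :
    mor W ρ ≫ Spec.map (CommRingCat.ofHom τ) = mor W (ρ.comp τ) := by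
  rw [mor, mor, Category.assoc, ← Spec.map_comp]
  rfl

theorem homOfLE_mor {W' W : X.Opens} (h : W' ≤ W) {R : Type u} [CommRing R] (ρ : R →+* Γ(X, W)) :
    X.homOfLE h ≫ mor W ρ = mor W' ((ores h).comp ρ) := by
  rw [mor, mor, ← Category.assoc, ← Scheme.Opens.toSpecΓ_SpecMap_presheaf_map _ _ h, Category.assoc,
    ← Spec.map_comp]
  rfl

/-- `W ⟶ Spec B` is an immersion. -/
def HImm (W : X.Opens) (B : Subring Γ(X, W)) : Prop := IsImmersion (mor W B.subtype)

theorem isImmersion_mor_of_comp {W : X.Opens} {R R' : Type u} [CommRing R] [CommRing R'] (τ : R →+* R')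
    (ρ : R' →+* Γ(X, W)) (h : IsImmersion (mor W (ρ.comp τ))) : IsImmersion (mor W ρ) := by
  rw [← mor_comp] at h
  exact IsImmersion.of_comp _ (Spec.map (CommRingCat.ofHom τ))

theorem isImmersion_mor_of_surjective {W : X.Opens} {R R' : Type u} [CommRing R] [CommRing R'] (τ : R →+* R')
    (hτ : Function.Surjective τ) (ρ : R' →+* Γ(X, W)) (h : IsImmersion (mor W ρ)) :
    IsImmersion (mor W (ρ.comp τ)) := by
  rw [← mor_comp]
  have : IsClosedImmersion (Spec.map (CommRingCat.ofHom τ)) := IsClosedImmersion.spec_of_surjective _ hτ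
  infer_instance

theorem isImmersion_mor_iff {W : X.Opens} {R : Type u} [CommRing R] (ρ : R →+* Γ(X, W)) :
    IsImmersion (mor W ρ) ↔ HImm W ρ.range := by
  have h : ρ.range.subtype.comp ρ.rangeRestrict = ρ := RingHom.ext fun _ => rfl
  constructor
  · intro h1
    rw [← h] at h1
    exact isImmersion_mor_of_comp _ _ h1
  · intro h1
    rw [← h]
    exact isImmersion_mor_of_surjective _ ρ.rangeRestrict_surjective _ h1

theorem HImm.mono {W : X.Opens} {B B' : Subring Γ(X, W)} (h : HImm W B) (hB : B ≤ B') : HImm W B' := by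
  refine isImmersion_mor_of_comp (Subring.inclusion hB) _ ?_
  exact h

theorem HImm.res {W W' : X.Opens} {B : Subring Γ(X, W)} (h : HImm W B) (hW : W' ≤ W) :
    HImm W' (B.map (ores hW)) := by
  have h1 : IsImmersion (X.homOfLE hW ≫ mor W B.subtype) := by
    have : IsImmersion (mor W B.subtype) := h
    infer_instance
  rw [homOfLE_mor, isImmersion_mor_iff] at h1
  refine h1.mono ?_
  rintro _ ⟨b, rfl⟩
  exact ⟨b, b.2, rfl⟩

/-- If `W` is affine and `B` is everything then `W ⟶ Spec B` is an immersion. -/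
theorem HImm.of_affine {W : X.Opens} (hW : IsAffineOpen W) : HImm W ⊤ := by
  have h1 : IsImmersion (mor W (RingHom.id Γ(X, W))) := by
    have : IsAffine W := hW
    have : IsIso W.toSpecΓ := by
      rw [Scheme.Opens.toSpecΓ]; infer_instance
    have h2 : mor W (RingHom.id Γ(X, W)) = W.toSpecΓ := by
      rw [mor]
      exact (congrArg _ (Spec.map_id _)).trans (Category.comp_id _)
    rw [h2]
    infer_instance
  rw [isImmersion_mor_iff] at h1
  exact h1.mono le_top

/-- If a ring homomorphism `R →+* Γ(X, W)` with range inside `B` defines an immersion `W ⟶ Spec R` then `HImm W B`. -/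
theorem HImm.of_hom {W : X.Opens} {R : Type u} [CommRing R] (ρ : R →+* Γ(X, W)) (h : IsImmersion (mor W ρ))
    {B : Subring Γ(X, W)} (hB : ∀ r, ρ r ∈ B) : HImm W B := by
  rw [isImmersion_mor_iff] at h
  refine h.mono ?_
  rintro _ ⟨r, rfl⟩
  exact hB r

/-! ### Morphisms to a scheme covered by affine opens -/

section target

variable {P : Scheme.{u}} (r : X ⟶ P)

theorem restrict_toSpecΓ (D : P.Opens) : r ∣_ D ≫ D.toSpecΓ = mor (r ⁻¹ᵁ D) (r.app D).hom := by
  rw [mor, ← Scheme.Opens.toSpecΓ_naturality]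
  rfl

/-- Over an affine open `D` of the target, `r` is an immersion iff `HImm` holds for the image of `Γ(P, D)`. -/
theorem isImmersion_restrict_iff {D : P.Opens} (hD : IsAffineOpen D) :
    IsImmersion (r ∣_ D) ↔ HImm (r ⁻¹ᵁ D) (r.app D).hom.range := by
  have : IsIso D.toSpecΓ := by
    have : IsAffine D := hD
    rw [Scheme.Opens.toSpecΓ]; infer_instance
  rw [← isImmersion_mor_iff, ← restrict_toSpecΓ]
  constructor
  · intro h
    infer_instance
  · intro h
    exact IsImmersion.of_comp (r ∣_ D) D.toSpecΓ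

/-- If `r` is an immersion over each member of a family of opens whose preimages cover, it is an immersion. -/
theorem isImmersion_of_family {ι : Type*} (W : ι → P.Opens) (hcov : ⨆ i, r ⁻¹ᵁ (W i) = ⊤)
    (hcl : ∀ i, IsImmersion (r ∣_ (W i))) : IsImmersion r := by
  let V : P.Opens := ⨆ i, W i
  have hV : Set.range r ⊆ Set.range V.ι := by
    rw [Scheme.Opens.range_ι]
    rintro _ ⟨x, rfl⟩
    have hx : x ∈ (⨆ i, r ⁻¹ᵁ (W i)) := by rw [hcov]; trivial
    obtain ⟨i, hi⟩ := Opens.mem_iSup.mp hx
    exact Opens.mem_iSup.mpr ⟨i, hi⟩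
  let g : X ⟶ V := IsOpenImmersion.lift V.ι r hV
  have hg : g ≫ V.ι = r := IsOpenImmersion.lift_fac _ _ _
  have hgcl : IsImmersion g := by
    rw [IsZariskiLocalAtTarget.iff_of_iSup_eq_top (P := @IsImmersion)
      (fun i => V.ι ⁻¹ᵁ (W i))]
    · intro i
      have h1 : IsImmersion ((g ≫ V.ι) ∣_ (W i)) := by
        rw [hg]; exact hcl i
      rw [morphismRestrict_comp] at h1
      have h2 := h1
      exact @IsImmersion.of_comp _ _ _ (g ∣_ (V.ι ⁻¹ᵁ W i)) (V.ι ∣_ (W i)) h2
    · rw [← Scheme.Hom.preimage_iSup]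
      ext x
      simp only [Opens.coe_top, Set.mem_univ, iff_true]
      exact x.2
  rw [← hg]
  infer_instance

/-- Assembly: affine opens `D i` of the target whose preimages cover, with `HImm` for the image of `Γ(P, D i)`. -/
theorem isImmersion_of_himm {ι : Type*} (D : ι → P.Opens) (hD : ∀ i, IsAffineOpen (D i))
    (hcov : ⨆ i, r ⁻¹ᵁ (D i) = ⊤) (h : ∀ i, HImm (r ⁻¹ᵁ (D i)) (r.app (D i)).hom.range) : IsImmersion r :=
  isImmersion_of_family r D hcov fun i => (isImmersion_restrict_iff r (hD i)).mpr (h i)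

theorem himm_of_isImmersion [IsImmersion r] {D : P.Opens} (hD : IsAffineOpen D) :
    HImm (r ⁻¹ᵁ D) (r.app D).hom.range :=
  (isImmersion_restrict_iff r hD).mp inferInstance

end target

end K43.HomImm
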