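import Groth.Agent.EGA2.K43.VADef
import Groth.Agent.Ega2.RelAmpComp

/-!
# The condition `VA` and immersions

For an immersion `i : X ⟶ P`, `p : P ⟶ Y`, `i ≫ p = q`, `M` locally generated on `P`, `φ : E ⟶ p_* M`, `η : i^* M ≅ N` :
`pullHom i p q h φ η : E ⟶ q_* N` with `se_pullHom : e ↦ η (i^* (φ e))`, `nz_pullHom`, and
`VA.pull : VA p φ → VA q (pullHom ..)`.
-/

set_option autoImplicit false
universe u
open CategoryTheory CategoryTheory.Limits AlgebraicGeometry TopologicalSpace Opposite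

namespace K43.VAImm

open Groth.Agent.Fdesc.LocGen Groth.Agent.Ega2.Nv K43.HomImm K43.VADef

variable {X P Y : Scheme.{u}} (i : X ⟶ P) (p : P ⟶ Y) (q : X ⟶ Y) (h : i ≫ p = q)
  {E : Y.Modules} {M : P.Modules} {N : X.Modules} (φ : E ⟶ (Scheme.Modules.pushforward p).obj M)
  (η : (Scheme.Modules.pullback i).obj M ⟶ N)

include h in
theorem exists_pullHom : ∃ ψ : E ⟶ (Scheme.Modules.pushforward q).obj N, ∀ (U : Y.Opens) (e : Γ(E, U)),
    ∃ (hU : q ⁻¹ᵁ U = i ⁻¹ᵁ (p ⁻¹ᵁ U)), se q ψ e = res N hU.le (η.app (i ⁻¹ᵁ (p ⁻¹ᵁ U)) (pullSec i (se p φ e))) := by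
  subst h
  refine ⟨φ ≫ (Scheme.Modules.pushforward p).map
    ((Scheme.Modules.pullbackPushforwardAdjunction i).homEquiv M N η) ≫
      (Scheme.Modules.pushforwardComp i p).hom.app N, fun U e => ⟨rfl, ?_⟩⟩
  exact (homEquiv_app i η (se p φ e)).trans (res_refl N _).symm

/-- The sections of `N` over `q⁻¹ U` obtained by pulling back the sections of `M`. -/
noncomputable def pullHom : E ⟶ (Scheme.Modules.pushforward q).obj N := (exists_pullHom i p q h φ η).choose

theorem se_pullHom {U : Y.Opens} (e : Γ(E, U)) (hU : q ⁻¹ᵁ U ≤ i ⁻¹ᵁ (p ⁻¹ᵁ U)) :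
    se q (pullHom i p q h φ η) e = res N hU (η.app (i ⁻¹ᵁ (p ⁻¹ᵁ U)) (pullSec i (se p φ e))) := by
  obtain ⟨hU', h1⟩ := (exists_pullHom i p q h φ η).choose_spec U e
  exact h1

theorem se_pullHom' {U : Y.Opens} (e : Γ(E, U)) :
    se (i ≫ p) (pullHom i p (i ≫ p) rfl φ η) e =
      (show Γ(N, (i ≫ p) ⁻¹ᵁ U) from η.app (i ⁻¹ᵁ (p ⁻¹ᵁ U)) (pullSec i (se p φ e))) :=
  (se_pullHom i p (i ≫ p) rfl φ η e le_rfl).trans (res_refl N _)

/-- The nonvanishing locus is invariant under isomorphisms. -/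
theorem nv_app {A B : X.Modules} (η : A ⟶ B) [IsIso η] {V : X.Opens} (s : Γ(A, V)) : nv B (η.app V s) = nv A s := by
  have key : ∀ W (hW : W ≤ V), W ≤ nv B (η.app V s) ↔ W ≤ nv A s := by
    intro W hW
    rw [le_nv_iff B _ hW, le_nv_iff A _ hW, ← app_res, isGen_app_iff]
  exact le_antisymm ((key _ (nv_le _ _)).1 le_rfl) ((key _ (nv_le _ _)).2 le_rfl)

variable [IsIso η] (hM : ∀ U : P.Opens, LocGen M U)

include hM in
theorem nz_pullHom {U : Y.Opens} (e : Γ(E, U)) : nz q (pullHom i p q h φ η) e = i ⁻¹ᵁ (nz p φ e) := by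
  subst h
  rw [nz, se_pullHom']
  exact (nv_app η (pullSec i (se p φ e))).trans (Groth.Agent.Ega2.RelAmp.nv_pullSec i (hM _) _)

include hM in
theorem at_pullHom [IsImmersion i] {U : Y.Opens} {x : X} (hx : At p φ U (i x)) :
    At q (pullHom i p q h φ η) U x := by
  obtain ⟨e, hxe, he⟩ := hx
  have hnz := nz_pullHom i p q h φ η hM e
  refine ⟨e, by rw [hnz]; exact hxe, ?_⟩
  subst h
  -- the pull-back of the ring of ratios
  have h1 : HImm (i ⁻¹ᵁ nz p φ e) ((ratioRing p φ e).map (i.app (nz p φ e)).hom) := by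
    have h2 : IsImmersion (i ∣_ (nz p φ e) ≫ mor (nz p φ e) (ratioRing p φ e).subtype) := by
      have : IsImmersion (mor (nz p φ e) (ratioRing p φ e).subtype) := he
      have : IsImmersion (i ∣_ (nz p φ e)) := inferInstance
      infer_instance
    have h3 : i ∣_ (nz p φ e) ≫ mor (nz p φ e) (ratioRing p φ e).subtype =
        mor (i ⁻¹ᵁ nz p φ e) ((i.app (nz p φ e)).hom.comp (ratioRing p φ e).subtype) := by
      rw [mor, ← Category.assoc, restrict_toSpecΓ, mor_comp]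
    rw [h3, isImmersion_mor_iff] at h2
    refine h2.mono ?_
    rintro _ ⟨b, rfl⟩
    exact ⟨b.1, b.2, rfl⟩
  refine himm_congr hnz _ _ ?_ h1
  have hle : nz (i ≫ p) (pullHom i p (i ≫ p) rfl φ η) e ≤ (i ≫ p) ⁻¹ᵁ U := nz_le _ _ _
  have hWU : nz p φ e ≤ p ⁻¹ᵁ U := nz_le p φ e
  have hs : ∀ t : Γ(E, U), res N hle (se (i ≫ p) (pullHom i p (i ≫ p) rfl φ η) t) =
      res N hnz.le (η.app _ (pullSec i (res M hWU (se p φ t)))) := by
    intro t
    rw [se_pullHom', ← res_pullSec, app_res, res_res]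
    rfl
  have key : (ratioRing p φ e).map (i.app (nz p φ e)).hom ≤
      (ratioRing (i ≫ p) (pullHom i p (i ≫ p) rfl φ η) e).comap (ores hnz.le) := by
    rw [ratioRing, RingHom.map_closure, Subring.closure_le]
    rintro _ ⟨b, (⟨a, rfl⟩ | ⟨t, ht⟩), rfl⟩
    · have h4 := app_mem_ratioRing (i ≫ p) (pullHom i p (i ≫ p) rfl φ η) e a
      have h5 : ores hnz.le ((i.app (nz p φ e)).hom (ores hWU (p.app U a))) = ores hle ((i ≫ p).app U a) := by
        have h6 : (i.app (nz p φ e)).hom (ores hWU (p.app U a)) =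
            ores (i.preimage_mono hWU) (show Γ(X, i ⁻¹ᵁ (p ⁻¹ᵁ U)) from i.app _ (p.app U a)) :=
          congr(($(i.naturality (homOfLE hWU).op)).hom (p.app U a))
        rw [h6, ores_ores]
        rfl
      change ores hnz.le ((i.app (nz p φ e)).hom (ores hWU (p.app U a))) ∈
        ratioRing (i ≫ p) (pullHom i p (i ≫ p) rfl φ η) e
      rw [h5]
      exact h4
    · change ores hnz.le ((i.app (nz p φ e)).hom b) ∈ ratioRing (i ≫ p) (pullHom i p (i ≫ p) rfl φ η) e
      refine ratio_mem_ratioRing _ _ e t ?_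
      rw [hs, hs, ht, pullSec_smul, Scheme.Modules.Hom.app_smul, res_smul]
  exact fun b hb => key hb

include hM in
/-- The condition for a pull-back along an immersion. -/
theorem va_pullHom [IsImmersion i] (hφ : VA p φ) : VA q (pullHom i p q h φ η) := by
  intro U hU x hx
  refine at_pullHom i p q h φ η hM (hφ U hU _ ?_)
  subst h
  exact hx

end K43.VAImm
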