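import Groth.Agent.EGA2.K43.VAForward

/-!
# A morphism to `Proj 𝒮` defined by `φ` with `VA q φ` is an immersion

`isImmersion_of_va`: for `𝒮` with `Pack j`, `r : X ⟶ P = Proj 𝒮` over `Y` and `τ : r^* O(1) ≅ L` carrying the pull-backs of
the canonical sections `can (j e)` to the sections `φ e`, `VA q φ` implies that `r` is an immersion.
-/

set_option autoImplicit false
universe u
open CategoryTheory CategoryTheory.Limits AlgebraicGeometry TopologicalSpace Opposite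

namespace K43.VAImmersion

open Groth.Agent.Fdesc.LocGen Groth.Agent.Ega2.Nv K43.CanMap K43.Piece K43.HomImm K43.VADef K43.VAImm RelProj

variable {X Y P : Scheme.{u}} {E : Y.Modules} {𝒮 : QCGrAlg Y} {j : E ⟶ 𝒮.toModule}
  (hpk : Pack j) {p : P ⟶ Y}
  {chart : ∀ (U : Y.Opens) (hU : IsAffineOpen U), (((p ⁻¹ᵁ U : P.Opens) : Scheme.{u}) ≅ Proj (𝒮.deg U hU))}
  (hP : IsRelProj 𝒮 p chart) {O1 : P.Modules}
  {lam : ∀ (U : Y.Opens) (hU : IsAffineOpen U),
    O1 ⟶ (Scheme.Modules.pushforward (emb p chart U hU)).obj (GrTwist.twist (𝒮.deg U hU) 1)}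
  (hO1 : IsRelTwist 𝒮 p chart 1 O1 lam) (r : X ⟶ P) {L : X.Modules} (τ : (Scheme.Modules.pullback r).obj O1 ⟶ L)
  [IsIso τ] (φ : E ⟶ (Scheme.Modules.pushforward (r ≫ p)).obj L)

include hpk hP hO1 in
theorem isImmersion_of_va
    (hτ : ∀ (U : Y.Opens) (_ : IsAffineOpen U) (e : Γ(E, U)), se (r ≫ p) φ e =
      (show Γ(L, (r ≫ p) ⁻¹ᵁ U) from τ.app _ (pullSec r (se p (canMap hP hO1 hpk.mem) e))))
    (hφ : VA (r ≫ p) φ) : IsImmersion r := by
  set c := canMap hP hO1 hpk.mem with hc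
  have hlg : ∀ U, LocGen O1 U := fun U => VAForward.locGen_of_isInvertible (isInvertible hP hO1 hpk) U
  have hnz : ∀ (U : Y.Opens) (_ : IsAffineOpen U) (e : Γ(E, U)), nz (r ≫ p) φ e = r ⁻¹ᵁ (nz p c e) := by
    intro U hU e
    rw [nz, hτ U hU]
    exact (nv_app τ _).trans (Groth.Agent.Ega2.RelAmp.nv_pullSec r (hlg _) _)
  -- the family of affine opens of `P`
  let ι := {t : Σ U : Y.affineOpens, Γ(E, U.1) // HImm (nz (r ≫ p) φ t.2) (ratioRing (r ≫ p) φ t.2)}
  refine isImmersion_of_himm r (fun t : ι => nz p c t.1.2)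
    (fun t => isAffineOpen_nz hP hO1 hpk t.1.1.2 t.1.2) ?_ ?_
  · rw [eq_top_iff]
    intro x _
    obtain ⟨V, hV, hzV, -⟩ := exists_isAffineOpen_mem_and_subset (x := (r ≫ p) x) (U := ⊤) trivial
    obtain ⟨e, hxe, he⟩ := hφ V hV x hzV
    refine Opens.mem_iSup.mpr ⟨⟨⟨⟨V, hV⟩, e⟩, he⟩, ?_⟩
    change x ∈ r ⁻¹ᵁ (nz p c e)
    rw [← hnz V hV e]
    exact hxe
  · rintro ⟨⟨⟨U, hU⟩, e⟩, he⟩
    dsimp only at he ⊢
    replace hU : IsAffineOpen U := hU
    have hDU : nz p c e ≤ p ⁻¹ᵁ U := nz_le p c e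
    have hWU : nz (r ≫ p) φ e ≤ (r ≫ p) ⁻¹ᵁ U := nz_le (r ≫ p) φ e
    refine himm_congr (hnz U hU e).symm _ _ ?_ he
    have hs : ∀ t : Γ(E, U), res L (r.preimage_mono hDU) (se (r ≫ p) φ t) =
        τ.app _ (pullSec r (res O1 hDU (se p c t))) := by
      intro t
      rw [hτ U hU, ← res_pullSec, app_res]
      rfl
    intro b hb
    refine ores_mem_of_closure (hnz U hU e).ge _ _ ?_ hb
    rintro b (⟨a, rfl⟩ | ⟨t, ht⟩)
    · refine ⟨ores hDU (p.app U a), ?_⟩
      have h6 : (r.app (nz p c e)).hom (ores hDU (p.app U a)) =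
          ores (r.preimage_mono hDU) (show Γ(X, r ⁻¹ᵁ (p ⁻¹ᵁ U)) from r.app _ (p.app U a)) :=
        congr(($(r.naturality (homOfLE hDU).op)).hom (p.app U a))
      rw [h6]
      dsimp only
      rw [ores_ores]
      rfl
    · obtain ⟨a, -, ha⟩ := exists_ratio p c e t
      refine ⟨a, ?_⟩
      have hgen : IsGen (res L (r.preimage_mono hDU) (se (r ≫ p) φ e)) := by
        rw [hs, isGen_app_iff]
        exact (isGen_nz p c e).pullSec r
      apply hgen.ext
      have h7 := congrArg (res L (hnz U hU e).ge) ht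
      rw [res_res, res_smul, res_res] at h7
      refine Eq.trans ?_ h7
      refine Eq.trans ?_ (hs t).symm
      rw [hs e, ha, pullSec_smul, Scheme.Modules.Hom.app_smul]

end K43.VAImmersion
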