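import Groth.Agent.EGA2.K43.VADef
import Groth.Agent.Ega1.QcqsPush
import Groth.Agent.Ega2.QCohLocal

/-!
# The section-level condition for a quasi-compact open immersion

`va_id_of_isOpenImmersion`: `VA u (𝟙 (u_* L))` for `u : X ⟶ Y` a quasi-compact open immersion and `L` invertible.
-/

set_option autoImplicit false
universe u
open CategoryTheory CategoryTheory.Limits AlgebraicGeometry TopologicalSpace Opposite

namespace K43.VAOpen

open Groth.Agent.Fdesc.LocGen Groth.Agent.Ega2.Nv K43.HomImm K43.VADef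

variable {X Y : Scheme.{u}} (u : X ⟶ Y) [IsOpenImmersion u] {L : X.Modules}

theorem isQCoh_push [QuasiCompact u] (hL : Coh.IsQCoh L) : Coh.IsQCoh ((Scheme.Modules.pushforward u).obj L) :=
  Groth.Agent.Ega1.QcqsPush.isQCoh_pushforward u _ hL

theorem va_id_of_isOpenImmersion [QuasiCompact u] (hL : PicF.IsInvertible L) :
    VA u (𝟙 ((Scheme.Modules.pushforward u).obj L)) := by
  refine va_of_cover (isQCoh_push u (Groth.Agent.Ega2.QCohLocal.isQCoh_of_isInvertible hL)) fun x => ?_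
  obtain ⟨W, e, hxW, he⟩ := (isInvertible_iff L).mp hL x
  obtain ⟨V, hV, hxV, hVW⟩ := exists_isAffineOpen_mem_and_subset (x := u x) (U := u ''ᵁ W) ⟨x, hxW, rfl⟩
  replace hVW : V ≤ u ''ᵁ W := hVW
  have hVr : V ≤ u.opensRange := hVW.trans (u.image_le_opensRange W)
  have hle : u ⁻¹ᵁ V ≤ W := (u.preimage_mono hVW).trans (u.preimage_image_eq W).le
  refine ⟨V, hV, hxV, (res L hle e : Γ((Scheme.Modules.pushforward u).obj L, V)), ?_⟩
  have hse : se u (𝟙 _) (res L hle e : Γ((Scheme.Modules.pushforward u).obj L, V)) = res L hle e := rfl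
  have hnz : nz u (𝟙 _) (res L hle e : Γ((Scheme.Modules.pushforward u).obj L, V)) = u ⁻¹ᵁ V := by
    apply le_antisymm (nz_le _ _ _)
    rw [nz, hse, le_nv_iff L _ le_rfl]
    exact (he.res hle).res le_rfl
  refine ⟨by rw [hnz]; exact hxV, ?_⟩
  have haff : IsAffineOpen (u ⁻¹ᵁ V) := hV.preimage_of_isOpenImmersion u hVr
  refine himm_congr hnz ⊤ _ ?_ (HImm.of_affine haff)
  intro b _
  obtain ⟨c, hc⟩ : ∃ c : Γ(Y, V), u.app V c = b := by
    have h1 : IsIso (u.app V) := by
      obtain ⟨W', rfl⟩ : ∃ W' : X.Opens, V = u ''ᵁ W' :=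
        ⟨u ⁻¹ᵁ V, by rw [u.image_preimage_eq_opensRange_inf]; exact (inf_eq_right.mpr hVr).symm⟩
      infer_instance
    exact (ConcreteCategory.bijective_of_isIso (u.app V)).2 b
  rw [← hc]
  exact app_mem_ratioRing u (𝟙 _) (res L hle e : Γ((Scheme.Modules.pushforward u).obj L, V)) c

end K43.VAOpen
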